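import Mathlib
import Cfsg.Prelude.Def_Local
import Cfsg.Agent.PLocal.Alperin

/-! # S3860 (real class sizes with the same 2-part): definitions.

Conventions: conjugation is written `t⁻¹ * g * t`.  `Iv t g` : `t` inverts `g`.
`Hyp G c` : every noncentral real element has a centralizer with 2-part `2 ^ c`.
`Syl 2 S H` is the relative Sylow predicate of `PLocal/Alperin` (API there). -/

set_option autoImplicit false
set_option linter.unusedSectionVars false

namespace Cfsg.Agent.Rcs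

open Subgroup Cfsg.Agent.PLocal.CF

variable {G : Type*} [Group G]

/-- `t` inverts `g`. -/
def Iv (t g : G) : Prop := t⁻¹ * g * t = g⁻¹

/-- `g` is a 2-element. -/
def Two (g : G) : Prop := ∃ k : ℕ, g ^ 2 ^ k = 1

/-- centralizer of an element. -/
abbrev C1 (g : G) : Subgroup G := centralizer ({g} : Set G)

theorem mem_C1 {g h : G} : h ∈ C1 g ↔ Commute g h := by
  simp only [C1, mem_centralizer_iff, Set.mem_singleton_iff, forall_eq]; rfl

/-- every noncentral real element has centralizer with 2-part exactly `2 ^ c`. -/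
def Hyp (G : Type*) [Group G] (c : ℕ) : Prop :=
  ∀ y t : G, Iv t y → y ∉ center G → (Nat.card (C1 y)).factorization 2 = c

/-- no nontrivial real element of odd order of `G` lies in `H`. -/
def NoRe (H : Subgroup G) : Prop := ∀ y ∈ H, ∀ t : G, Odd (orderOf y) → Iv t y → y = 1

/-- `x ≠ 1` of odd order inverted by `t`, `T` a Sylow 2-subgroup of `C(x)` (order `2^c`)
normalized by `t`, `t² ∈ T`.  (So `T* = T ∪ T t` is a 2-group of order `2^(c+1)`.) -/
structure Pr (c : ℕ) (x t : G) (T : Subgroup G) : Prop where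
  ne : x ≠ 1
  odd : Odd (orderOf x)
  iv : Iv t x
  le : T ≤ C1 x
  card : Nat.card T = 2 ^ c
  nm : t ∈ Nm T
  sq : t ^ 2 ∈ T

/-- `Z(L)` as a subgroup of `G`. -/
def Zl (L : Subgroup G) : Subgroup G := L ⊓ Ce L

theorem mem_Zl {L : Subgroup G} {z : G} : z ∈ Zl L ↔ z ∈ L ∧ ∀ l ∈ L, Commute l z := by
  simp only [Zl, mem_inf, mem_centralizer_iff, SetLike.mem_coe]; rfl

instance Zl_normal (L : Subgroup G) [hL : L.Normal] : (Zl L).Normal := by
  unfold Zl; infer_instance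

/-- the set `𝒮'`: elements of `L \ Z(L)` with square in `Z(L)`, inverted by an element of `L`
whose square lies in `Z(L)`. -/
def SS (L : Subgroup G) (f : G) : Prop :=
  f ∈ L ∧ f ∉ Zl L ∧ f ^ 2 ∈ Zl L ∧ ∃ i ∈ L, i ^ 2 ∈ Zl L ∧ Iv i f

/-- `ph f g = f⁻¹ * f^g`. -/
def ph (f g : G) : G := f⁻¹ * (g⁻¹ * f * g)

/-- `N⁺(f)`: the elements centralizing `f` modulo `Z(L)`. -/
def Np (L : Subgroup G) [L.Normal] (f : G) : Subgroup G :=
  (C1 (QuotientGroup.mk' (Zl L) f)).comap (QuotientGroup.mk' (Zl L))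

theorem mem_Np {L : Subgroup G} [L.Normal] {f g : G} : g ∈ Np L f ↔ ph f g ∈ Zl L := by
  unfold Np ph
  rw [mem_comap, mem_C1, ← QuotientGroup.eq_one_iff]
  simp only [QuotientGroup.mk'_apply, QuotientGroup.mk_mul, QuotientGroup.mk_inv]
  constructor
  · intro h
    rw [mul_assoc (g : G ⧸ Zl L)⁻¹, h.eq]; group
  · intro h
    have : (f : G ⧸ Zl L) * g = g * f := by
      calc (f : G ⧸ Zl L) * g = g * f * ((f : G ⧸ Zl L)⁻¹ * ((g : G ⧸ Zl L)⁻¹ * f * g)) := by group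
        _ = g * f := by rw [h, mul_one]
    exact this

/-- The setting after the reduction: `L ⊴ G` quasisimple, `Z(L)` a 2-group whose involutions are
central in `G`. -/
structure St (c : ℕ) (L : Subgroup G) : Prop where
  hyp : Hyp G c
  qs : Cfsg.IsQuasisimple L
  zp : ∀ z ∈ Zl L, Two z
  z1 : ∀ z ∈ Zl L, z ^ 2 = 1 → z ∈ center G

/-- Case I data: `a = 1`, `S = T ∪ T d` is a Sylow 2-subgroup of `G`, `w ∈ Z(T)` of order 4
inverted by `d`; `ζ = w ^ 2`. -/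
structure CI (c : ℕ) (L : Subgroup G) (d x w : G) (T : Subgroup G) : Prop where
  st : St c L
  pr : Pr c x d T
  dL : d ∈ L
  xL : x ∈ L
  wL : w ∈ L
  ord : orderOf w = 4
  wT : w ∈ T
  wc : T ≤ C1 w
  ivw : Iv d w
  dsq : d ^ 2 = 1 ∨ d ^ 2 = w ^ 2
  a1 : ¬ 2 ^ (c + 2) ∣ Nat.card G

/-- the normal set `𝓡` of Case I. -/
def RR (L : Subgroup G) (w f : G) : Prop := f ∈ L ∧ f ∉ Zl L ∧ (f ^ 2 = 1 ∨ f ^ 2 = w ^ 2)

/-- `S = T ∪ T d`. -/
abbrev Sd (T : Subgroup G) (d : G) : Subgroup G := T ⊔ zpowers d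

/-- `Δ = ⟨Z(L), 𝓡 ∩ S⟩`. -/
def Del (L : Subgroup G) (d w : G) (T : Subgroup G) : Subgroup G :=
  Zl L ⊔ closure {f | f ∈ Sd T d ∧ RR L w f}

/-- no "type I" configuration inverted by an element of `𝒮'`. -/
def NI (L : Subgroup G) : Prop :=
  ∀ d x w : G, SS L d → x ∈ L → x ≠ 1 → Odd (orderOf x) → w ∈ L → orderOf w = 4 →
    Commute x w → Iv d x → Iv d w → False

/-- Case II data: `a ≥ 2`. -/
structure CII (c : ℕ) (L : Subgroup G) : Prop where
  st : St c L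
  a2 : 2 ^ (c + 2) ∣ Nat.card G

/-- all involutions of `L / Z(L)` are conjugate (to the image of `z`). -/
def OneCl (L : Subgroup G) (z : G) : Prop :=
  ∀ i ∈ L, i ∉ Zl L → i ^ 2 ∈ Zl L → ∃ g ∈ L, z⁻¹ * (g⁻¹ * i * g) ∈ Zl L

/-- preimage of `Ω₁(Z(S_L / Z))`. -/
def Om (L S : Subgroup G) (u : G) : Prop :=
  u ∈ S ⊓ L ∧ u ^ 2 ∈ Zl L ∧ ∀ s ∈ S ⊓ L, ph u s ∈ Zl L

/-- `2^a < |S_L / Z|`, i.e. `|S| |Z| < |S ∩ L| 2^c`. -/
def Small (c : ℕ) (L S : Subgroup G) : Prop :=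
  Nat.card S * Nat.card (Zl L) < Nat.card (S ⊓ L : Subgroup G) * 2 ^ c

end Cfsg.Agent.Rcs
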