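import Mathlib
import Cfsg.Agent.Rcs.Defs

/-! S3860: elementary lemmas on inverted elements and 2-parts (no `L`). -/

set_option autoImplicit false
set_option linter.unusedSectionVars false

namespace Cfsg.Agent.Rcs

open Subgroup Cfsg.Agent.PLocal.CF

variable {G : Type*} [Group G] [Finite G] {c : ℕ}

theorem Iv.zpow {t g : G} (h : Iv t g) (k : ℤ) : Iv t (g ^ k) := by
  unfold Iv at *
  rw [← inv_zpow, ← h]
  simpa using (conj_zpow (a := t⁻¹) (b := g) (i := k)).symm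

theorem Iv.pow {t g : G} (h : Iv t g) (k : ℕ) : Iv t (g ^ k) := by
  exact zpow_natCast g k ▸ h.zpow k

theorem Iv.inv {t g : G} (h : Iv t g) : Iv t g⁻¹ := by
  exact zpow_neg_one g ▸ h.zpow (-1)

theorem Iv.comm_mul {t s g : G} (h : Iv t g) (h' : Iv s g) : Commute g (s * t) := by
  have := h.inv
  unfold Iv at *
  rw [inv_inv, ← h'] at this
  calc g * (s * t) = s * t * (t⁻¹ * (s⁻¹ * g * s) * t) := by group
    _ = _ := by rw [this]

theorem Iv.sq_comm {t g : G} (h : Iv t g) : Commute g (t ^ 2) := by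
  rw [sq]
  exact h.comm_mul h

theorem Iv.mul_left {t g s : G} (h : Iv t g) (hc : Commute g s) : Iv (s * t) g := by
  unfold Iv at *
  rw [← h, mul_inv_rev, mul_assoc t⁻¹, mul_assoc t⁻¹, mul_assoc s⁻¹, ← mul_assoc g, hc.eq]
  group

theorem Two.eq_one {g : G} (h : Two g) (ho : Odd (orderOf g)) : g = 1 := by
  obtain ⟨j, e⟩ := h
  exact orderOf_eq_one_iff.1 (Nat.Coprime.eq_one_of_dvd (ho.coprime_two_right.pow_right j)
    (orderOf_dvd_of_pow_eq_one e))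

/-- `T ⊔ ⟨d⟩ = T ∪ T d` when `d` normalizes `T` and `d ^ 2 ∈ T`. -/
theorem mem_Sd {T : Subgroup G} {d : G} (hn : d ∈ Nm T) (h2 : d ^ 2 ∈ T) {s : G} :
    s ∈ Sd T d ↔ s ∈ T ∨ d⁻¹ * s ∈ T := by
  have h3 : ∀ m : ℤ, d ^ (2 * m) ∈ T := fun m => by rw [zpow_mul]; exact zpow_mem (zpow_ofNat d 2 ▸ h2) m
  refine ⟨fun h => ?_, fun h => h.elim mem_sup_left fun h => ?_⟩
  · rw [← SetLike.mem_coe, coe_mul_of_right_le_normalizer_left _ _ (zpowers_le.2 hn)] at h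
    obtain ⟨a, ha, _, ⟨i, rfl⟩, rfl⟩ := h
    obtain ⟨m, rfl | rfl⟩ := Int.even_or_odd' i
    · exact .inl (mul_mem ha (h3 m))
    · refine .inr ?_
      convert mul_mem (conj_mem_of_mem_nm (inv_mem hn) ha) (h3 m) using 1
      group
  · exact mul_inv_cancel_left d s ▸ mul_mem (mem_sup_right (mem_zpowers d)) (mem_sup_left h)

theorem card_Sd {T : Subgroup G} {d : G} (hn : d ∈ Nm T) (h2 : d ^ 2 ∈ T) (hd : d ∉ T) :
    Nat.card (Sd T d) = 2 * Nat.card T := by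
  have : T.relIndex (Sd T d) = 2 := relIindex_eq_two_iff'.2 ⟨d⁻¹, inv_mem (mem_sup_right (mem_zpowers d)),
    fun b hb => by
      by_cases c : b ∈ T
      · exact .inr ⟨c, fun c' => hd (by simpa using mul_mem c (inv_mem c'))⟩
      · exact .inl ⟨((mem_Sd hn h2).1 hb).resolve_left c, c⟩⟩
  rw [← (T.subgroupOf (Sd T d)).card_mul_index, Nat.card_congr (subgroupOfEquivOfLe le_sup_left).toEquiv,
    ← relIndex, this, mul_comm]

/-- An odd power of an inverter is a 2-element and still inverts. Proof: `orderOf t = 2^j * m`,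
`m` odd, take `k = m`; `Iv (t^k) g` for odd `k` because `t^2` commutes with `g`. -/
theorem exists_odd_pow_two (t : G) : ∃ k : ℕ, Odd k ∧ Two (t ^ k) := by
  obtain ⟨j, m, hm, e⟩ := Nat.exists_eq_two_pow_mul_odd (orderOf_pos t).ne'
  exact ⟨m, hm, j, by rw [← pow_mul, mul_comm, ← e, pow_orderOf_eq_one]⟩

theorem Iv.pow_odd {t g : G} (h : Iv t g) {k : ℕ} (hk : Odd k) : Iv (t ^ k) g := by
  obtain ⟨m, rfl⟩ := hk
  rw [pow_succ, pow_mul]
  exact h.mul_left (h.sq_comm.pow_right m)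

theorem Iv.symm' {t g : G} (h : Iv t g) : Iv t⁻¹ g := by
  have := h.inv
  unfold Iv at *
  rw [inv_inv] at this ⊢
  conv_lhs => rw [← this]
  group

theorem Iv.mul {t g u : G} (h : Iv t g) (h' : Iv t u) (hc : Commute g u) : Iv t (g * u) := by
  unfold Iv at *
  rw [hc.eq, mul_inv_rev, ← h, ← h', ← hc.eq]
  group

theorem Iv.mul_right {t g s : G} (h : Iv t g) (hc : Commute g s) : Iv (t * s) g := by
  unfold Iv at *
  rw [mul_inv_rev, mul_assoc s⁻¹, mul_assoc s⁻¹, ← mul_assoc _ t, h, hc.inv_left.eq, inv_mul_cancel_left]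

theorem Iv.conj {t g : G} (h : Iv t g) (k : G) : Iv (k⁻¹ * t * k) (k⁻¹ * g * k) := by
  unfold Iv at *
  calc _ = k⁻¹ * (t⁻¹ * g * t) * k := by group
    _ = _ := by rw [h]; group

/-- If `d' ^ 2 = d ^ 2` then `d` inverts `d⁻¹ * d'`. -/
theorem iv_of_sq_eq {d d' : G} (h : d' ^ 2 = d ^ 2) : Iv d (d⁻¹ * d') := by
  unfold Iv
  calc _ = (d ^ 2)⁻¹ * d' * d := by simp only [sq]; group
    _ = _ := by rw [← h]; simp only [sq]; group

/-- If `v` commutes with `t ^ 2` then `t` inverts `[v, t] = v⁻¹ * v^t`. -/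
theorem iv_ph {t v : G} (h : Commute v (t ^ 2)) : Iv t (ph v t) := by
  unfold Iv ph
  calc _ = t⁻¹ * v⁻¹ * t⁻¹ * (v * t ^ 2) := by simp only [sq]; group
    _ = _ := by rw [h.eq]; simp only [sq]; group

/-- an element of odd order `≠ 1` that is inverted is not central and has `x ^ 2 ≠ 1`. -/
theorem not_central_of_iv {t x : G} (h : Iv t x) (hx : x ^ 2 ≠ 1) : x ∉ center G := by
  intro c
  unfold Iv at h
  rw [mul_assoc, ← mem_center_iff.1 c, inv_mul_cancel_left] at h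
  exact hx (by rw [sq, mul_eq_one_iff_eq_inv]; exact h)

theorem sq_ne_one_of_odd {x : G} (h1 : x ≠ 1) (ho : Odd (orderOf x)) : x ^ 2 ≠ 1 := by
  exact fun c => h1 (Two.eq_one ⟨1, c⟩ ho)

theorem Two.pow {g : G} (h : Two g) (k : ℕ) : Two (g ^ k) := by
  obtain ⟨j, e⟩ := h
  exact ⟨j, by rw [← pow_mul, mul_comm, pow_mul, e, one_pow]⟩

theorem Two.zpow {g : G} (h : Two g) (k : ℤ) : Two (g ^ k) := by
  obtain ⟨j, e⟩ := h
  exact ⟨j, by rw [← zpow_natCast, ← zpow_mul, mul_comm, zpow_mul, zpow_natCast, e, one_zpow]⟩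

theorem Two.mul {g u : G} (h : Two g) (h' : Two u) (hc : Commute g u) : Two (g * u) := by
  obtain ⟨i, e⟩ := h
  obtain ⟨j, e'⟩ := h'
  exact ⟨i + j, by rw [hc.mul_pow, pow_add, pow_mul, e, mul_comm (2 ^ i), pow_mul, e', one_pow, one_pow, mul_one]⟩

theorem Two.of_mem {T : Subgroup G} (hT : IsPGroup 2 T) {g : G} (hg : g ∈ T) : Two g := by
  obtain ⟨j, e⟩ := hT ⟨g, hg⟩
  exact ⟨j, congrArg Subtype.val e⟩

theorem isPGroup_of_two {T : Subgroup G} (h : ∀ g ∈ T, Two g) : IsPGroup 2 T := by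
  exact fun g => (h g g.2).imp fun _ => Subtype.ext

/-- a 2-element with `u ^ 2 ≠ 1` has a power of order 4. -/
theorem Two.exists_four {u : G} (h : Two u) (h2 : u ^ 2 ≠ 1) : ∃ k : ℕ, orderOf (u ^ k) = 4 := by
  obtain ⟨j, e⟩ := h
  obtain ⟨i, -, hi⟩ := (Nat.dvd_prime_pow Nat.prime_two).1 (orderOf_dvd_of_pow_eq_one e)
  rcases i with _ | _ | i
  · exact absurd (orderOf_dvd_iff_pow_eq_one.1 (hi ▸ one_dvd 2)) h2
  · exact absurd (orderOf_dvd_iff_pow_eq_one.1 (hi ▸ dvd_rfl)) h2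
  · have : orderOf u = 2 ^ i * 4 := by rw [hi]; ring
    exact ⟨2 ^ i, by rw [orderOf_pow_of_dvd (by positivity) ⟨4, this⟩, this,
      Nat.mul_div_cancel_left _ (by positivity)]⟩

/-- 2-part / odd part decomposition: both are powers of `g`. -/
theorem exists_parts (g : G) : ∃ i j : ℕ, Two (g ^ i) ∧ Odd (orderOf (g ^ j)) ∧ g ^ i * g ^ j = g := by
  obtain ⟨k, m, hm, e⟩ := Nat.exists_eq_two_pow_mul_odd (orderOf_pos g).ne'
  have co : (2 ^ k).Coprime m := hm.coprime_two_left.pow_left k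
  obtain ⟨i, i1, i2⟩ := Nat.chineseRemainder co 1 0
  obtain ⟨j, j1, j2⟩ := Nat.chineseRemainder co 0 1
  refine ⟨i, j, ⟨k, ?_⟩, hm.of_dvd_nat (orderOf_dvd_of_pow_eq_one ?_), ?_⟩
  · rw [← pow_mul, ← orderOf_dvd_iff_pow_eq_one, e, mul_comm]
    exact Nat.mul_dvd_mul_right (Nat.modEq_zero_iff_dvd.1 i2) _
  · rw [← pow_mul, ← orderOf_dvd_iff_pow_eq_one, e]
    exact Nat.mul_dvd_mul_right (Nat.modEq_zero_iff_dvd.1 j1) _
  · rw [← pow_add, pow_eq_pow_iff_modEq.2 (e ▸ (Nat.modEq_and_modEq_iff_modEq_mul co).1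
      ⟨i1.add j1, i2.add j2⟩ : i + j ≡ 1 [MOD orderOf g]), pow_one]

/-- for commuting `x` (odd order) and `u` (2-element), `C(xu) = C(x) ∩ C(u)`
(both are powers of `x * u`). -/
theorem C1_mul {x u : G} (ho : Odd (orderOf x)) (hu : Two u) (hc : Commute x u) :
    C1 (x * u) = C1 x ⊓ C1 u := by
  obtain ⟨k, e⟩ := hu
  obtain ⟨i, hi⟩ := mem_zpowers_pow_iff.2 (ho.coprime_two_left.pow_left k)
  refine le_antisymm (fun h hh => ?_) fun h hh => mem_C1.2 ((mem_C1.1 hh.1).mul_left (mem_C1.1 hh.2))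
  have h1 := ((mem_C1.1 hh).pow_left (2 ^ k)).zpow_left i
  rw [hc.mul_pow, e, mul_one, show (x ^ 2 ^ k) ^ i = x from hi] at h1
  exact ⟨mem_C1.2 h1, mem_C1.2 (inv_mul_cancel_left x u ▸ h1.inv_left.mul_left (mem_C1.1 hh))⟩

/-- Growth lemma. `K ≤ H`, `s ∈ H` normalizes `K`, `s ∉ K`, `s ^ 2 ^ j ∈ K`.  Then
`|K ⊔ ⟨s⟩ : K|` is a nontrivial power of 2, so the 2-part grows. -/
theorem grow {K H : Subgroup G} (hKH : K ≤ H) {s : G} (hs : s ∈ H) (hn : s ∈ Nm K) (hsK : s ∉ K)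
    {j : ℕ} (hj : s ^ 2 ^ j ∈ K) {k : ℕ} (hk : 2 ^ k ∣ Nat.card K) : 2 ^ (k + 1) ∣ Nat.card H := by
  induction j generalizing s with
  | zero => exact absurd (by simpa using hj) hsK
  | succ j ih =>
    by_cases h2 : s ^ 2 ∈ K
    · exact (pow_succ' 2 k ▸ mul_dvd_mul_left 2 hk).trans
        (card_Sd hn h2 hsK ▸ card_dvd_of_le (sup_le hKH (zpowers_le.2 hs)))
    · exact ih (pow_mem hs 2) (pow_mem hn 2) h2 (by rwa [← pow_mul, ← pow_succ'])

/-- If `s ∈ H` inverts `y`, `y ^ 2 ≠ 1`, then `|H|₂ ≥ 2 |C_H(y)|₂` (`grow` with `K = H ⊓ C(y)`,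
`j = 1`). -/
theorem grow_iv {H : Subgroup G} {s y : G} (hs : s ∈ H) (h : Iv s y) (hy : y ^ 2 ≠ 1) {k : ℕ}
    (hk : 2 ^ k ∣ Nat.card (H ⊓ C1 y : Subgroup G)) : 2 ^ (k + 1) ∣ Nat.card H := by
  have key : ∀ {t : G}, t ∈ H → Iv t y → ∀ g ∈ H ⊓ C1 y, t⁻¹ * g * t ∈ H ⊓ C1 y := fun {t} ht h g hg =>
    ⟨H.mul_mem (H.mul_mem (inv_mem ht) hg.1) ht, mem_C1.2 (by
      have := (mem_C1.1 hg.2).conj t⁻¹
      rwa [inv_inv, show t⁻¹ * y * t = _ from h, Commute.inv_left_iff] at this)⟩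
  refine grow (j := 1) inf_le_left hs (mem_normalizer_iff.2 fun g => ⟨fun hg => ?_, fun hg => ?_⟩)
    (fun c => hy ?_) ⟨pow_mem hs _, mem_C1.2 h.sq_comm⟩ hk
  · simpa using key (inv_mem hs) h.symm' g hg
  · simpa [mul_assoc] using key hs h _ hg
  · unfold Iv at h
    rw [mul_assoc, (mem_C1.1 c.2).eq, inv_mul_cancel_left] at h
    rw [sq, mul_eq_one_iff_eq_inv]
    exact h

/-- If all conjugates `s⁻¹ * e * s` (`s ∈ H`) lie in `{e, e'}` then `|H : C_H(e)| ≤ 2`. -/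
theorem dvd_of_two_conj {H : Subgroup G} {e e' : G} (h : ∀ s ∈ H, s⁻¹ * e * s = e ∨ s⁻¹ * e * s = e')
    {k : ℕ} (hk : 2 ^ (k + 1) ∣ Nat.card H) : 2 ^ k ∣ Nat.card (H ⊓ C1 e : Subgroup G) := by
  have key : ∀ b : G, b⁻¹ * e * b = e → b ∈ C1 e := fun b c => mem_C1.2 (by
    rw [mul_assoc, inv_mul_eq_iff_eq_mul] at c; exact c)
  have : (C1 e).relIndex H ∣ 2 := relIndex_dvd_two_iff.2 (by
    by_cases c : ∃ a ∈ H, a⁻¹ * e * a = e'
    · obtain ⟨a, ha, c⟩ := c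
      refine ⟨a⁻¹, inv_mem ha, fun b hb => (h b hb).symm.imp (fun c' => key _ ?_) (key b)⟩
      calc _ = a * (b⁻¹ * e * b) * a⁻¹ := by group
        _ = _ := by rw [c', ← c]; group
    · exact ⟨1, one_mem _, fun b hb => .inr (key b ((h b hb).resolve_right fun c' => c ⟨b, hb, c'⟩))⟩)
  rw [← ((H ⊓ C1 e).subgroupOf H).card_mul_index, Nat.card_congr (subgroupOfEquivOfLe inf_le_left).toEquiv,
    ← relIndex, inf_comm, inf_relIndex_right, inf_comm, pow_succ] at hk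
  exact Nat.dvd_of_mul_dvd_mul_right two_pos (hk.trans (mul_dvd_mul_left _ this))

end Cfsg.Agent.Rcs
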