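import Mathlib
import Cfsg.Agent.Rcs.Defs
import Cfsg.Agent.Rcs.Ph
import Cfsg.Agent.S0199
import Cfsg.Agent.S0205
import Cfsg.Agent.S0215

/-! S3860: the simple quotient `X = L / Z(L)`; Z*, Baer-Suzuki and the counting lemma. -/

set_option autoImplicit false
set_option linter.unusedSectionVars false

namespace Cfsg.Agent.Rcs

open Subgroup Cfsg.Agent.PLocal.CF

variable {G : Type*} [Group G] [Finite G] {c : ℕ}

/-- the quotient `L / Z(L)`. -/
abbrev Qt (L : Subgroup G) := L ⧸ center L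

/-- the projection. -/
abbrev pi (L : Subgroup G) : L →* Qt L := QuotientGroup.mk' (center L)

variable {L : Subgroup G} [L.Normal]

theorem mem_center_iff_Zl {x : L} : x ∈ center L ↔ (x : G) ∈ Zl L := by
  rw [mem_center_iff, mem_Zl]
  exact ⟨fun h => ⟨x.2, fun l hl => congrArg Subtype.val (h ⟨l, hl⟩)⟩,
    fun h l => Subtype.ext (h.2 l l.2)⟩

theorem pi_eq_one {x : L} : pi L x = 1 ↔ (x : G) ∈ Zl L := by
  rw [← mem_center_iff_Zl]; exact QuotientGroup.eq_one_iff x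

theorem pi_eq {x y : L} : pi L x = pi L y ↔ (x : G)⁻¹ * y ∈ Zl L := by
  rw [← inv_mul_eq_one, ← map_inv, ← map_mul, pi_eq_one]; rfl

theorem pi_comm {x y : L} : Commute (pi L x) (pi L y) ↔ (y : G) ∈ Np L (x : G) := by
  rw [mem_Np, Commute, SemiconjBy, ← map_mul, ← map_mul, eq_comm, pi_eq]
  have : ((y * x : L) : G)⁻¹ * (x * y : L) = ph (x : G) y := by
    simp only [ph, coe_mul]; group
  rw [this]

theorem pi_orderOf_two {x : L} : orderOf (pi L x) = 2 ↔ (x : G) ∉ Zl L ∧ (x : G) ^ 2 ∈ Zl L := by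
  rw [← pi_eq_one, ← coe_pow, ← pi_eq_one, map_pow]
  exact ⟨fun h => ⟨fun e => by simp [e] at h, h ▸ pow_orderOf_eq_one _⟩,
    fun h => orderOf_eq_prime h.2 h.1⟩

/-- every element of odd order of `L / Z(L)` lifts to an element of odd order (`exists_parts`). -/
theorem exists_odd_lift (y : Qt L) (ho : Odd (orderOf y)) :
    ∃ x : L, pi L x = y ∧ Odd (orderOf (x : G)) := by
  obtain ⟨x, rfl⟩ := QuotientGroup.mk'_surjective _ y
  obtain ⟨i, j, ⟨k, h1⟩, h2, h3⟩ := exists_parts x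
  have : pi L (x ^ i) = 1 := Two.eq_one ⟨k, by rw [← map_pow, h1, map_one]⟩
    (by rw [map_pow]; exact ho.of_dvd_nat (orderOf_pow_dvd i))
  refine ⟨x ^ j, ?_, by rwa [orderOf_coe]⟩
  conv_rhs => rw [← h3]
  rw [map_mul, this, one_mul]

theorem St.simple (h : St c L) : IsSimpleGroup (Qt L) := h.qs.2

theorem St.perfect (h : St c L) : Group.IsPerfect (Qt L) := by
  have := h.qs.1
  infer_instance

/-- `X` is simple and perfect, so not solvable. -/
theorem St.not_solvable (h : St c L) : ¬ Group.IsSolvable (Qt L) := by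
  have := h.simple
  have := h.perfect
  exact Group.IsPerfect.not_isSolvable _

theorem St.center_eq (h : St c L) : center (Qt L) = ⊥ := by
  have := h.simple
  refine (IsSimpleGroup.eq_bot_or_eq_top_of_normal (center (Qt L)) inferInstance).resolve_right
    fun e => h.not_solvable (Group.isSolvable_of_comm fun a b => ?_)
  exact mem_center_iff.1 (e.ge (mem_top b)) a

/-- a 2-subgroup of `L` normalized by `L` lies in `Z(L)`. -/
theorem St.le_Zl (h : St c L) {Q : Subgroup G} (hQ : IsPGroup 2 Q) (hL : Q ≤ L) (hn : L ≤ Nm Q) :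
    Q ≤ Zl L := by
  have := h.simple
  have := Fact.mk Nat.prime_two
  have n : (Q.subgroupOf L).Normal := ⟨fun q hq g => conj_mem_of_mem_nm (T := Q) (hn g.2) hq⟩
  have p : IsPGroup 2 ((Q.subgroupOf L).map (pi L)) := (hQ.comap_of_injective _ L.subtype_injective).map _
  rcases IsSimpleGroup.eq_bot_or_eq_top_of_normal _ (n.map (pi L) (QuotientGroup.mk'_surjective _))
    with e | e
  · exact fun q hq => (pi_eq_one (x := ⟨q, hL hq⟩)).1 (e.le (mem_map_of_mem _ hq))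
  · rw [e] at p
    have := (p.of_equiv topEquiv).isNilpotent
    exact (h.not_solvable inferInstance).elim

/-- the Sylow 2-subgroup of `X` under a Sylow 2-subgroup `S` of `G`
(`Syl.inf_normal`, `Syl.subgroupOf`, `Syl.map`, `Syl.exists_sylow`; `Z(L) ≤ S`). -/
theorem St.exists_P (h : St c L) {S : Subgroup G} (hS : Syl 2 S ⊤) :
    ∃ P : Sylow 2 (Qt L), (∀ x : L, pi L x ∈ P ↔ (x : G) ∈ S) ∧
      Nat.card P * Nat.card (Zl L) = Nat.card (S ⊓ L : Subgroup G) := by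
  have := Fact.mk Nat.prime_two
  have s1 : Syl 2 (S ⊓ L) L := hS.inf_normal le_top (normalizer_eq_top L).ge
  have s2 := s1.subgroupOf.map (pi L)
  rw [← MonoidHom.range_eq_map, MonoidHom.range_eq_top.2 (QuotientGroup.mk'_surjective _)] at s2
  obtain ⟨P, hP⟩ := s2.exists_sylow
  have ZS : Zl L ≤ S := h.Zl_le_syl hS le_top
  have e : (P : Subgroup (Qt L)).comap (pi L) = (S ⊓ L).subgroupOf L := by
    rw [hP, comap_map_eq, QuotientGroup.ker_mk', sup_eq_left]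
    exact fun x hx => ⟨ZS (mem_center_iff_Zl.1 hx), x.2⟩
  refine ⟨P, fun x => ?_, ?_⟩
  · have : x ∈ (P : Subgroup (Qt L)).comap (pi L) ↔ x ∈ (S ⊓ L).subgroupOf L := by rw [e]
    exact this.trans ⟨fun k => k.1, fun k => ⟨k, x.2⟩⟩
  · rw [← Nat.card_congr (subgroupOfEquivOfLe (inf_le_right : S ⊓ L ≤ L)).toEquiv, ← e,
      ← Nat.card_congr (subgroupOfEquivOfLe (Zl_le (L := L))).toEquiv,
      show (Zl L).subgroupOf L = center L from Subgroup.ext fun x => mem_center_iff_Zl.symm,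
      mul_comm]
    exact (QuotientGroup.card_preimage_mk (center L) (P : Set (Qt L))).symm

/-- Z*: in the simple group `X` the involution `π i` is not isolated in `P` (S0215: the normal
subgroup `N` of odd order is `⊥` since `π i` has order 2, and `Z(X) = 1`). -/
theorem St.zs (h : St c L) {S : Subgroup G} (hS : Syl 2 S ⊤) {i : G} (hiS : i ∈ S) (hiL : i ∈ L)
    (hZ : i ∉ Zl L) (h2 : i ^ 2 ∈ Zl L) : ∃ g ∈ L, g⁻¹ * i * g ∈ S ∧ ph i g ∉ Zl L := by
  have := h.simple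
  obtain ⟨P, hP, -⟩ := h.exists_P hS
  by_contra k
  push Not at k
  have o : orderOf (pi L ⟨i, hiL⟩) = 2 := pi_orderOf_two.2 ⟨hZ, h2⟩
  obtain ⟨N, n1, n2, n3⟩ := S0215.result P _ o ((hP _).2 hiS) fun g hg => by
    obtain ⟨g, rfl⟩ := QuotientGroup.mk'_surjective _ g
    rw [← map_mul, ← map_inv, ← map_mul] at hg ⊢
    have := k g⁻¹ (inv_mem g.2) (by rw [inv_inv]; exact (hP _).1 hg)
    rw [ph, inv_inv] at this
    exact (pi_eq.2 this).symm
  rcases IsSimpleGroup.eq_bot_or_eq_top_of_normal N n1 with rfl | rfl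
  · refine hZ ((pi_eq_one (x := ⟨i, hiL⟩)).1 (h.center_eq.le (mem_center_iff.2 fun g => ?_)))
    have := mem_bot.1 (n3 g)
    rw [mul_inv_eq_one, mul_inv_eq_iff_eq_mul] at this
    exact this.symm
  · rw [card_top] at n2
    exact h.not_solvable (S0205.result n2)

/-- Baer-Suzuki modulo `Z(L)`.  Proof: apply S0199 in the group `H` to `X = ⟨i⟩ ⊔ Z(L)` (a 2-group).
For `g ∈ H` put `i' = g i g⁻¹`, `f = i⁻¹ i' ∈ H ⊓ L`.  Modulo `Z = Zl L` both `i, i'` are involutions,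
so `f^n * (i⁻¹ f^n i) ∈ Z` for all `n`.  The odd part `x = f^j` of `f` is then inverted by `i`
(`St.iv_of_mod`), so `x = 1` and `f` is a 2-element.  `A = ⟨f⟩ ⊔ Z` is a 2-group normalized by `i`
and `X ⊔ X^g ≤ A ⊔ ⟨i⟩`, a 2-group (`IsPGroup.to_sup_of_normal_*` / `mem_Sd`). -/
theorem St.bs (h : St c L) {H : Subgroup G} (hZ : Zl L ≤ H) {i : G} (hi : i ∈ H) (hiL : i ∈ L)
    (h2 : i ^ 2 ∈ Zl L) (hno : ∀ x ∈ H, x ∈ L → Odd (orderOf x) → Iv i x → x = 1) :
    ∃ Q : Subgroup G, Q ≤ H ∧ IsPGroup 2 Q ∧ H ≤ Nm Q ∧ i ∈ Q := by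
  have := Fact.mk Nat.prime_two
  let φ := QuotientGroup.mk' (Zl L)
  have ti : Two i := h.two_of_pow (k := 1) h2
  have kp : IsPGroup 2 (φ.comp H.subtype).ker := by
    rw [← MonoidHom.comap_ker, QuotientGroup.ker_mk']
    exact h.pg.comap_of_injective _ H.subtype_injective
  obtain ⟨N, n1, n2, n3⟩ := S0199.result (p := 2) (zpowers (⟨i, hi⟩ : H))
    (hy_zp (ti.imp fun k e => Subtype.ext e)) fun g => by
      set f : G := i⁻¹ * (g * i * (g : G)⁻¹) with hf
      have a1 : φ i ^ 2 = 1 := by rw [← map_pow]; exact (QuotientGroup.eq_one_iff _).2 h2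
      have a2 : Iv (φ i) (φ f) := by
        rw [hf, map_mul, map_inv]
        refine iv_of_sq_eq ?_
        rw [map_mul, map_mul, map_inv, conj_pow, a1, mul_one, mul_inv_cancel]
      have fH : f ∈ H := mul_mem (inv_mem hi) (mul_mem (mul_mem g.2 hi) (inv_mem g.2))
      have fL : f ∈ L := mul_mem (inv_mem hiL) (‹L.Normal›.conj_mem _ hiL _)
      obtain ⟨a, b, ⟨k, b1⟩, b2, b3⟩ := exists_parts f
      have b4 : f ^ b = 1 := hno _ (pow_mem fH b) (pow_mem fL b) b2 (h.iv_of_mod (pow_mem fL b) b2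
        ((QuotientGroup.eq_one_iff _).1 (by
          change φ _ = 1
          rw [map_mul, map_mul, map_mul, map_inv, map_pow, show _ = _ from a2.pow b, mul_inv_cancel])))
      rw [b4, mul_one] at b3
      rw [b3] at b1
      have p1 : IsPGroup 2 (zpowers (φ f) ⊔ zpowers (φ i) : Subgroup _) :=
        (hy_zp ⟨k, by rw [← map_pow, b1, map_one]⟩).to_sup_of_normal_left' (hy_zp ⟨1, a1⟩)
          (zpowers_le.2 ((Subgroup.inv_mem_iff _).1 (mem_normalizer_fintype (by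
            rintro _ ⟨m, rfl⟩
            rw [inv_inv, show _ = _ from a2.zpow m]
            exact ⟨-m, zpow_neg _ m⟩))))
      refine (p1.comap_of_ker_isPGroup _ kp).to_le (sup_le (zpowers_le.2
        (mem_sup_right (mem_zpowers _))) ?_)
      rw [MonoidHom.map_zpowers, zpowers_le]
      change φ (g * i * (g : G)⁻¹) ∈ zpowers (φ f) ⊔ zpowers (φ i)
      rw [show g * i * (g : G)⁻¹ = i * f by rw [hf]; group, map_mul]
      exact mul_mem (mem_sup_right (mem_zpowers _)) (mem_sup_left (mem_zpowers _))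
  refine ⟨N.map H.subtype, map_subtype_le N, n2.map _, fun g hg => mem_normalizer_fintype ?_,
    mem_map_of_mem H.subtype (n3 (mem_zpowers _))⟩
  rintro _ ⟨n, hn, rfl⟩
  exact mem_map_of_mem H.subtype (n1.conj_mem n hn ⟨g, hg⟩)

/-- `St.bs` with `H = L` and `St.le_Zl`. -/
theorem St.exists_odd (h : St c L) {d : G} (hd : d ∈ L) (hZ : d ∉ Zl L) (h2 : d ^ 2 ∈ Zl L) :
    ∃ x ∈ L, x ≠ 1 ∧ Odd (orderOf x) ∧ Iv d x := by
  by_contra k
  push Not at k
  obtain ⟨Q, q1, q2, q3, q4⟩ := h.bs Zl_le hd hd h2 fun x hx _ ho hi => by_contra fun e => k x hx e ho hi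
  exact hZ (h.le_Zl q2 q1 q3 q4)

/-- `X` has even order (Feit-Thompson S0205), so `P ≠ 1`; take `i ∈ S ⊓ L` over an involution;
`St.zs` gives `g`; `f = ph i g ∈ S` is inverted by `i` (`iv_ph_self`); `ss_of_iv`. -/
theorem St.exists_ss (h : St c L) {S : Subgroup G} (hS : Syl 2 S ⊤) : ∃ f ∈ S, SS L f := by
  obtain ⟨P, hP, -⟩ := h.exists_P hS
  have := Fact.mk Nat.prime_two
  have ne : (P : Subgroup (Qt L)) ≠ ⊥ := P.ne_bot_of_dvd_card (by_contra fun k =>
    h.not_solvable (S0205.result (Nat.odd_iff.2 (by omega))))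
  obtain ⟨⟨y, hy⟩, y1⟩ := ne_bot_iff_exists_ne_one.1 ne
  obtain ⟨x, rfl⟩ := QuotientGroup.mk'_surjective _ y
  have xS := (hP x).1 hy
  obtain ⟨k, k1, k2⟩ := (Two.of_mem hS.pg xS).exists_pow_sq (Z := Zl L) fun e =>
    y1 (Subtype.ext (pi_eq_one.2 e))
  have iL := pow_mem x.2 k
  obtain ⟨g, g1, g2, g3⟩ := h.zs hS (pow_mem xS k) iL k1 k2
  have fS : ph ((x : G) ^ k) g ∈ S := mul_mem (inv_mem (pow_mem xS k)) g2
  obtain ⟨m, hm⟩ := ss_of_iv iL k2 (ph_mem_of_normal iL g) g3 (Two.of_mem hS.pg fS) (iv_ph_self k2 g1)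
  exact ⟨_, pow_mem fS m, hm⟩

/-- DD. Descent: if `f ∈ S` is in `SS` and `s ∈ S` with `ph f s ∉ Z(L)`, then `f` inverts `ph f s`
(`iv_of_sq_eq`, `f ^ 2` is central), so a power of `ph f s` is in `SS` (`ss_of_iv`).  Induct along
`K 0 = S`, `K (n+1) = ⁅K n, S⁆` (lower central series of the nilpotent group `S`, ends in `⊥`,
and `1 ∉ SS`). -/
theorem St.exists_z (h : St c L) {S : Subgroup G} (hS : Syl 2 S ⊤) :
    ∃ z ∈ S, SS L z ∧ S ≤ Np L z := by
  have := Fact.mk Nat.prime_two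
  by_contra k
  push Not at k
  have key : ∀ n, ∃ f : S, f ∈ (⊤ : Subgroup S).lowerCentralSeries n ∧ SS L (f : G) := fun n => by
    induction n with
    | zero =>
      obtain ⟨f, f1, f2⟩ := h.exists_ss hS
      exact ⟨⟨f, f1⟩, mem_top _, f2⟩
    | succ n ih =>
      obtain ⟨f, f1, f2⟩ := ih
      obtain ⟨s, s1, s2⟩ := SetLike.not_le_iff_exists.1 (k f f.2 f2)
      have m : ph f ⟨s, s1⟩ ∈ (⊤ : Subgroup S).lowerCentralSeries (n + 1) := by
        have := commutator_mem_commutator (inv_mem f1) (mem_top (⟨s, s1⟩ : S)⁻¹)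
        rwa [commutatorElement_def, inv_inv, inv_inv, mul_assoc, mul_assoc, ← mul_assoc _ f] at this
      obtain ⟨j, hj⟩ := ss_of_iv f2.1 f2.2.2.1 (ph_mem_of_normal f2.1 s) (mt mem_Np.2 s2)
        (Two.of_mem hS.pg (ph f ⟨s, s1⟩).2) (iv_of_sq_eq (by
          rw [sq, sq, show s⁻¹ * f * s * (s⁻¹ * f * s) = s⁻¹ * (f ^ 2 * s) by simp only [sq]; group,
            ← mem_center_iff.1 (f2.sq h), inv_mul_cancel_left, sq]))
      exact ⟨_, pow_mem m j, hj⟩
  obtain ⟨n, hn⟩ := Subgroup.nilpotent_iff_lowerCentralSeries.1 hS.pg.isNilpotent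
  obtain ⟨f, f1, f2⟩ := key n
  rw [hn, mem_bot] at f1
  exact f2.2.1 (f1 ▸ one_mem _)

/-- Counting.  `T` Sylow in `C(y)`, `|T| = 2^c`, `T ⊓ L ≤ Z(L)`.  `T ≤ S' = cj g S`, and
`|S' ⊓ L| = |S ⊓ L|`.  `|T| |S' ⊓ L| = |T ⊔ (S' ⊓ L)| |T ⊓ L| ≤ |S| |Z|`
(or: `T / T ⊓ L` embeds in `S' / S' ⊓ L`, `relIndex`). -/
theorem St.cnt (h : St c L) {S : Subgroup G} (hS : Syl 2 S ⊤) {y t : G} (h1 : y ≠ 1)
    (ho : Odd (orderOf y)) (hi : Iv t y) (hC : ∀ u ∈ L, Two u → Commute y u → u ∈ Zl L) :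
    Nat.card (S ⊓ L : Subgroup G) * 2 ^ c ≤ Nat.card S * Nat.card (Zl L) := by
  have := Fact.mk Nat.prime_two
  have nc := hy_nc h1 ho hi
  obtain ⟨T, hT⟩ := exists_syl' 2 (C1 y)
  have cT := hy_card hT (h.hyp.dvd hi nc) (h.hyp.ub hi nc le_rfl)
  obtain ⟨g, -, hg⟩ := hS.exists_cj_le hT.pg le_top
  have c2 : Nat.card (cj g T) = 2 ^ c := by
    rw [← cT]; exact card_map_of_injective (MulAut.conj g).injective
  have zl : L ⊓ cj g T ≤ Zl L := by
    rintro _ ⟨hl, u, hu, rfl⟩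
    exact (Zl_normal L).conj_mem u (hC u (by simpa using ‹L.Normal›.mem_comm hl)
      (Two.of_mem hT.pg hu) (mem_C1.1 (hT.le hu))) g
  rw [← c2, ← hy_mul (inf_le_right : L ⊓ cj g T ≤ _), ← hy_mul (inf_le_left : S ⊓ L ≤ S),
    mul_assoc, mul_comm (relIndex _ S), inf_relIndex_right, inf_relIndex_left]
  refine Nat.mul_le_mul_left _ (Nat.mul_le_mul (card_le_of_le zl) (relIndex_le_of_le_right hg
    index_ne_zero_of_finite))

/-- the same from the quotient: `exists_odd_lift`, `St.iv_of_mod`, `St.cnt`. -/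
theorem St.cnt' (h : St c L) {S : Subgroup G} (hS : Syl 2 S ⊤) {y t : Qt L} (h1 : y ≠ 1)
    (ho : Odd (orderOf y)) (hi : Iv t y) (hC : ∀ u : Qt L, Two u → Commute y u → u = 1) :
    Nat.card (S ⊓ L : Subgroup G) * 2 ^ c ≤ Nat.card S * Nat.card (Zl L) := by
  obtain ⟨x, rfl, ox⟩ := exists_odd_lift y ho
  obtain ⟨s, rfl⟩ := QuotientGroup.mk'_surjective _ t
  refine h.cnt hS (t := s) (fun e => h1 (pi_eq_one.2 (by rw [e]; exact one_mem _))) ox (h.iv_of_mod x.2 ox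
    ((pi_eq_one (x := x * (s⁻¹ * x * s))).1 ?_)) fun u hu ⟨k, h2⟩ hc =>
      (pi_eq_one (x := ⟨u, hu⟩)).1 (hC _ ⟨k, ?_⟩ (Commute.map (Subtype.ext hc.eq) _))
  · rw [map_mul, map_mul, map_mul, map_inv, show _ = _ from hi, mul_inv_cancel]
  · rw [← map_pow, show (⟨u, hu⟩ : L) ^ 2 ^ k = 1 from Subtype.ext h2, map_one]

end Cfsg.Agent.Rcs
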