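import Mathlib
import Cfsg.Agent.Rcs.Defs
import Cfsg.Agent.Rcs.TI
import Cfsg.Agent.Rcs.Ph
import Cfsg.Agent.Rcs.Qs
import Cfsg.Agent.Rcs.Red

/-! S3860, Case I (`a = 1`): structure of `S = T ∪ T d`.  Notation in docstrings: `ζ = w ^ 2`,
`Z = Zl L`, `S = Sd T d`, `E = T ⊓ C(d)`, `δ v = ph v d`.  (uses Bas, Hy, Hz, TI, Ph, Qs). -/

set_option autoImplicit false
set_option linter.unusedSectionVars false

namespace Cfsg.Agent.Rcs

open Subgroup Cfsg.Agent.PLocal.CF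

variable {G : Type*} [Group G] [Finite G] {c : ℕ}

variable {L : Subgroup G} [L.Normal] {d x w : G} {T : Subgroup G}

namespace CA

theorem ne2 {w : G} (h : orderOf w = 4) : w ^ 2 ≠ 1 := fun e => by
  have := orderOf_dvd_of_pow_eq_one e
  rw [h] at this
  exact absurd this (by decide)

theorem cm {z : G} (h : z ∈ center G) (g : G) : Commute z g := (mem_center_iff.1 h g).symm

theorem cc {z : G} (h : z ∈ center G) (g : G) : g⁻¹ * z * g = z := by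
  rw [mul_assoc, (cm h g).eq, inv_mul_cancel_left]

theorem comm {t g : G} (h : Iv t g) (h2 : g ^ 2 = 1) : Commute g t := by
  rw [Iv, inv_eq_of_mul_eq_one_right (by rwa [← sq] : g * g = 1), mul_assoc,
    inv_mul_eq_iff_eq_mul] at h
  exact h

end CA

/-- From `¬ NI`: `d ∈ SS` so `Two d`; `exists_pr_mix` gives `T`; `Hyp.a1`.  `dsq`: `d` is real
noncentral with central square, `ph d w = w ^ 2 = ζ` (central by `sq_central`, `≠ 1`), and for the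
inverter `i` of `d`, `ph d i = (d^2)⁻¹ = d ^ 2`; `Hyp.y2`. -/
theorem St.exists_CI (h : St c L) (hn : ¬ NI L) : ∃ (d x w : G) (T : Subgroup G), CI c L d x w T := by
  simp only [NI, not_forall] at hn
  obtain ⟨d, x, w, hd, hx, h1, ho, hw, h4, hc, ix, iw, -⟩ := hn
  have w4 : w ^ 4 = 1 := h4 ▸ pow_orderOf_eq_one w
  obtain ⟨T, p, wT, wc⟩ := h.hyp.exists_pr_mix h1 ho ⟨2, w4⟩ hc ix iw hd.two
  have a1 := h.hyp.a1 h1 ho h4 hc ix iw
  refine ⟨d, x, w, T, h, p, hd.1, hx, hw, h4, wT, wc, iw, ?_, a1⟩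
  obtain ⟨i, -, -, hi⟩ := hd.2.2.2
  have e1 : ph d w = w ^ 2 := by rw [ph_swap, iv_iff_ph.1 iw, inv_inv]
  have e2 := iv_iff_ph.1 hi
  rcases h.hyp.y2 a1 hi hd.nc (hd.sq h) (g := i) (k := w) (e2 ▸ inv_mem (hd.sq h))
    (e1 ▸ h.hyp.sq_central iw w4) with e | e | e
  · exact Or.inl (inv_eq_one.1 (e2 ▸ e))
  · exact absurd (e1 ▸ e) (CA.ne2 h4)
  · rw [e1, e2, inv_eq_iff_eq_inv] at e
    exact Or.inr (e.trans (inv_eq_of_mul_eq_one_right (by rw [← pow_add, w4])))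

namespace CI

theorem syl (h : CI c L d x w T) : Syl 2 (Sd T d) ⊤ := by
  exact h.pr.syl_sd h.a1

theorem zc (h : CI c L d x w T) : w ^ 2 ∈ center G := by
  exact h.st.hyp.sq_central h.ivw (h.ord ▸ pow_orderOf_eq_one w)

theorem zne (h : CI c L d x w T) : w ^ 2 ≠ 1 := by
  exact CA.ne2 h.ord

theorem z2 (h : CI c L d x w T) : w ^ 2 * w ^ 2 = 1 := by
  rw [← pow_add, show 2 + 2 = orderOf w from h.ord.symm, pow_orderOf_eq_one]

theorem zZ (h : CI c L d x w T) : w ^ 2 ∈ Zl L := by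
  exact mem_Zl_of_center (pow_mem h.wL 2) h.zc

theorem ZT (h : CI c L d x w T) : Zl L ≤ T := by
  exact h.st.Zl_le_pr h.pr h.xL

theorem wZ (h : CI c L d x w T) : w ∉ Zl L := by
  exact fun e => hy_not h.ivw h.zne (comm_Zl e h.dL).symm

theorem wRR (h : CI c L d x w T) : RR L w w := by
  exact ⟨h.wL, h.wZ, Or.inr rfl⟩

theorem dRR (h : CI c L d x w T) : RR L w d := by
  exact ⟨h.dL, fun e => h.pr.notMem (h.ZT e), h.dsq⟩

theorem RR_conj (h : CI c L d x w T) {f : G} (hf : RR L w f) (g : G) : RR L w (g⁻¹ * f * g) := by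
  refine ⟨pq_cj.2 hf.1, fun e => hf.2.1 (pq_cj.1 e), hf.2.2.imp (fun e => ?_) fun e => ?_⟩
  · rw [pq_cjsq, e]; group
  · rw [pq_cjsq, e, CA.cc h.zc]

theorem RR_sq (h : CI c L d x w T) {f : G} (hf : RR L w f) : f ^ 2 ∈ center G := by
  rcases hf.2.2 with e | e <;> rw [e]
  exacts [one_mem _, h.zc]

/-- elements of `S \ T` invert `w`. -/
theorem iv_w (h : CI c L d x w T) {s : G} (hs : s ∈ Sd T d) (hT : s ∉ T) : Iv s w := by
  have := h.ivw.mul_right (mem_C1.1 (h.wc (((mem_Sd h.pr.nm h.pr.sq).1 hs).resolve_left hT)))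
  rwa [mul_inv_cancel_left] at this

theorem ph_w (h : CI c L d x w T) {s : G} (hs : s ∈ Sd T d) (hT : s ∉ T) :
    ph w s = w ^ 2 ∧ ph s w = w ^ 2 := by
  have e := iv_iff_ph.1 (h.iv_w hs hT)
  exact ⟨e.trans (inv_eq_of_mul_eq_one_right h.z2), by rw [ph_swap, e, inv_inv]⟩

theorem mem_T_iff (h : CI c L d x w T) {s : G} (hs : s ∈ Sd T d) : s ∈ T ↔ Commute w s := by
  exact ⟨fun e => mem_C1.1 (h.wc e), fun e => by_contra fun hT => hy_not (h.iv_w hs hT) h.zne e⟩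

theorem S_le_Np (h : CI c L d x w T) : Sd T d ≤ Np L w := by
  intro s hs
  rw [mem_Np]
  by_cases hT : s ∈ T
  · rw [ph_eq_one.2 (mem_C1.1 (h.wc hT))]; exact one_mem _
  · rw [(h.ph_w hs hT).1]; exact h.zZ

/-- change of `d` (`Pr.swap`). -/
theorem swap (h : CI c L d x w T) {f : G} (hf : f ∈ Sd T d) (hT : f ∉ T) (hr : RR L w f) :
    CI c L f x w T ∧ Sd T f = Sd T d := by
  exact ⟨⟨h.st, (h.pr.swap hf hT).1, hr.1, h.xL, h.wL, h.ord, h.wT, h.wc, h.iv_w hf hT, hr.2.2, h.a1⟩,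
    (h.pr.swap hf hT).2⟩

/-- `d` is real (`d ^ 2 = 1`, or `w` inverts it), noncentral, `ph d w = ζ ≠ 1`; `Hyp.y2`. -/
theorem y2d (h : CI c L d x w T) {g : G} (hg : ph d g ∈ center G) : ph d g = 1 ∨ ph d g = w ^ 2 := by
  have e := (h.ph_w (mem_sup_right (mem_zpowers d)) h.pr.notMem).2
  obtain ⟨t, ht⟩ : ∃ t, Iv t d := by
    rcases h.dsq with c | c
    · exact ⟨1, hy_iv c (Commute.one_right d)⟩
    · exact ⟨w, iv_iff_ph.2 (by rw [e, c, inv_eq_of_mul_eq_one_right h.z2])⟩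
  have := h.st.hyp.y2 h.a1 ht (fun c => hy_not h.ivw h.zne (mem_center_iff.1 c w))
    (h.RR_sq h.dRR) hg (e ▸ h.zc : ph d w ∈ center G)
  rw [e] at this
  exact this.imp id fun c => c.resolve_left h.zne

/-- `Hyp.mix_invol`. -/
theorem e_inv (h : CI c L d x w T) {u : G} (hu : u ∈ T) (hd : Commute u d) (h2 : u ^ 2 = 1) :
    u ∈ center G := by
  exact h.st.hyp.mix_invol h.pr.ne h.pr.odd h2 (mem_C1.1 (h.pr.le hu)) h.pr.iv hd

/-- `d * s` inverts `x` and `u`; `Hyp.mix_iv`. -/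
theorem e_four (h : CI c L d x w T) {u s : G} (hu : u ∈ T) (hd : Commute u d) (hs : s ∈ T)
    (hi : Iv s u) : u ^ 2 = 1 := by
  exact h.st.hyp.mix_iv h.pr.ne h.pr.odd (Two.of_mem h.pr.pg hu) (mem_C1.1 (h.pr.le hu))
    (h.pr.iv.mul_right (mem_C1.1 (h.pr.le hs))) (hi.mul_left hd) (mem_C1.1 (h.pr.le hs)) hi

/-- `δ v ∈ Z(T)`, inverted by `d` (`iv_ph`, `Pr.w_cent`). -/
theorem del (h : CI c L d x w T) {v : G} (hv : v ∈ T) :
    ph v d ∈ T ∧ T ≤ C1 (ph v d) ∧ Iv d (ph v d) := by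
  have c := h.RR_sq h.dRR
  have i : Iv d (ph v d) := iv_ph (mem_center_iff.1 c v)
  exact ⟨ph_mem_of_nm hv h.pr.nm, h.pr.w_cent h.st.hyp c (ph_mem_of_nm hv h.pr.nm) i, i⟩

theorem del_mul (h : CI c L d x w T) {v v' : G} (hv : v ∈ T) (hv' : v' ∈ T) :
    ph (v * v') d = ph v d * ph v' d := by
  rw [ph_mul_left, mul_assoc v'⁻¹, (mem_C1.1 ((h.del hv).2.1 hv')).eq, inv_mul_cancel_left]

/-- `f ∈ T` with central square: `(δ f)^2 = δ (f^2) = 1`, so `δ f` commutes with `d` and is central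
(`e_inv`); `ph d f = (δ f)⁻¹`, `y2d`: `δ f ∈ {1, ζ}`. -/
theorem tri (h : CI c L d x w T) {f : G} (hf : f ∈ T) (h2 : f ^ 2 ∈ center G) :
    ph f d = 1 ∨ ph f d = w ^ 2 := by
  have e : ph f d ^ 2 = 1 := by
    rw [sq, ← h.del_mul hf hf, ← sq]
    exact ph_eq_one.2 (mem_center_iff.1 h2 d).symm
  obtain ⟨a, -, i⟩ := h.del hf
  have c := h.e_inv a (CA.comm i e) e
  rw [ph_swap] at c ⊢
  refine (h.y2d (inv_mem_iff.1 c)).imp (fun e => ?_) fun e => ?_ <;> rw [e]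
  exacts [inv_one, inv_eq_of_mul_eq_one_right h.z2]

/-- `δ w = ζ`, so `δ (w f) = 1` in the second case of `tri`. -/
theorem tri' (h : CI c L d x w T) {f : G} (hf : f ∈ T) (h2 : f ^ 2 ∈ center G) :
    Commute f d ∨ Commute (w * f) d := by
  refine (h.tri hf h2).imp ph_eq_one.1 fun e => ph_eq_one.1 ?_
  rw [h.del_mul h.wT hf, e, (h.ph_w (mem_sup_right (mem_zpowers d)) h.pr.notMem).1, h.z2]

/-- If `τ ∈ T` and `d * τ ∈ 𝓡` then `ph τ s` is central of square 1 for `s ∈ T`.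
Proof: `d₁ = d τ`, `swap`.  `s⁻¹ d s = d (δ s)⁻¹`, `s⁻¹ d₁ s = d₁ (δ₁ s)⁻¹` with `δ s, δ₁ s ∈ Z(T)`, so
`ν = ph τ s = δ s * (δ₁ s)⁻¹ ∈ Z(T)`, inverted by `d` (`d₁` inverts `δ₁ s`, `τ` commutes with it).
`τ ^ 2 ∈ Z(T)`: `(d τ)^2 = d^2 * (d⁻¹ τ d) * τ = d^2 * τ * δ τ * τ`, so `τ^2 = (d^2)⁻¹ d₁^2 (δ τ)⁻¹`.
`ph_sq` gives `ν ^ 2 = 1`, so `ν` commutes with `d`; `e_inv`. -/
theorem ph_T (h : CI c L d x w T) {τ s : G} (hτ : τ ∈ T) (hr : RR L w (d * τ)) (hs : s ∈ T) :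
    ph τ s ∈ center G ∧ ph τ s ^ 2 = 1 := by
  obtain ⟨h₁, -⟩ := h.swap (f := d * τ) (mul_mem (mem_sup_right (mem_zpowers d)) (mem_sup_left hτ))
    (fun e => h.pr.notMem ((mul_mem_cancel_right hτ).1 e)) hr
  obtain ⟨a1, a2, a3⟩ := h.del hs
  obtain ⟨b1, b2, b3⟩ := h₁.del hs
  obtain ⟨-, c2, -⟩ := h.del hτ
  have e : ph τ s = ph s d * (ph s (d * τ))⁻¹ := by
    rw [← ph_swap, ph_mul_left, ph_swap d s, mul_assoc τ⁻¹, (mem_C1.1 (a2 hτ)).inv_left.eq]; group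
  have i : Iv d (ph τ s) := by
    have := b3.mul_right (mem_C1.1 (b2 hτ)).inv_right
    rw [mul_inv_cancel_right] at this
    rw [e]
    exact a3.mul this.inv (mem_C1.1 (a2 b1)).inv_right
  have e2 : τ ^ 2 = (d ^ 2)⁻¹ * (d * τ) ^ 2 * (ph τ d)⁻¹ := by
    have : τ * ph τ d * τ = τ ^ 2 * ph τ d := by rw [mul_assoc, (mem_C1.1 (c2 hτ)).eq, sq, mul_assoc]
    rw [eq_mul_inv_iff_mul_eq, ← this, ← conj_eq_ph]
    simp only [sq]; group
  have s2 : ph τ s ^ 2 = 1 := by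
    refine ph_sq ?_ ?_
    · rw [e]
      exact (mem_C1.1 (a2 hτ)).symm.mul_right (mem_C1.1 (b2 hτ)).symm.inv_right
    · rw [e2]
      exact ((CA.cm (h.RR_sq h.dRR) s).inv_left.mul_left (CA.cm (h.RR_sq hr) s)).mul_left
        (mem_C1.1 (c2 hs)).inv_left
  exact ⟨h.e_inv (e ▸ mul_mem a1 (inv_mem b1)) (CA.comm i s2) s2, s2⟩

/-- U.  Suppose `u ∉ Z`.  (1) `u ∈ Z(S)`: `d u ∈ 𝓡` (`(du)^2 = d^2 ζ`, `du ∉ T ⊇ Z`), so for `s ∈ T`
`ν = ph u s` is central (`ph_T`).  `e = w u` has `e ^ 2 = 1`, `ph e d = ζ` (so `e` is noncentral,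
real with inverter `1`), `ph e s = ν`; `y2`: `ν = 1` or `ν = ζ`; if `ν = ζ`, `s` inverts `u`, `e_four`
gives `ζ = 1`.  (2) For all `g`: `ph u g` central of square 1 ⇒ `= 1` (`ph_eq_one_of_syl`); the same
for conjugates `u' = g⁻¹ u g` (`ph_conj`).  (3) `St.zs`: `u' = g⁻¹ u g ∈ S`, `u⁻¹ u' ∉ Z`,
`u'^2 = ζ`.  `u' ∉ T` ⇒ `ph u' w = ζ`, against (2).  So `u' ∈ T`, `tri`: `ph u' d = ζ` is against (2),
so `u'` commutes with `d`; `u⁻¹ u' ∈ E` has square 1, central by `e_inv`, so in `Z`. -/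
theorem U (h : CI c L d x w T) {u : G} (hu : u ∈ T) (huL : u ∈ L) (hd : Commute u d)
    (h2 : u ^ 2 = w ^ 2) : u ∈ Zl L := by
  by_contra hZ
  have dS : d ∈ Sd T d := mem_sup_right (mem_zpowers d)
  have wu := mem_C1.1 (h.wc hu)
  have r : RR L w (d * u) := by
    refine ⟨mul_mem h.dL huL, fun e => h.pr.notMem ((mul_mem_cancel_right hu).1 (h.ZT e)), ?_⟩
    rw [hd.symm.mul_pow, h2]
    rcases h.dsq with e | e <;> rw [e]
    exacts [Or.inr (one_mul _), Or.inl h.z2]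
  have e2 : (w * u) ^ 2 = 1 := by rw [wu.mul_pow, h2, h.z2]
  have ed : ph (w * u) d = w ^ 2 := by
    rw [h.del_mul h.wT hu, (h.ph_w dS h.pr.notMem).1, ph_eq_one.2 hd, mul_one]
  have TC : T ≤ C1 u := fun s hs => by
    have es : ph (w * u) s = ph u s := by
      rw [ph_mul_left, ph_eq_one.2 (mem_C1.1 (h.wc hs))]; group
    have := h.st.hyp.y2 h.a1 (hy_iv e2 (Commute.one_right _))
      (fun c => h.zne (ed ▸ ph_eq_one.2 (CA.cm c d))) (e2 ▸ one_mem _) (g := s) (k := d)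
      (es ▸ (h.ph_T hu r hs).1) (ed ▸ h.zc)
    rw [es, ed] at this
    rcases this with c | c | c
    · exact mem_C1.2 (ph_eq_one.1 c)
    · exact absurd c h.zne
    · exact absurd (h2 ▸ h.e_four hu hd hs (iv_iff_ph.2 (by
        rw [c, h2, inv_eq_of_mul_eq_one_right h.z2]))) h.zne
  have no : ∀ g k, ph (g⁻¹ * u * g) k ≠ w ^ 2 := fun g k e => by
    have e1 : ph u (g * k * g⁻¹) = w ^ 2 := by
      have := ph_conj (g⁻¹ * u * g) k g⁻¹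
      rw [e, CA.cc h.zc, inv_inv, show g * (g⁻¹ * u * g) * g⁻¹ = u by group] at this
      exact this
    exact h.zne (e1 ▸ ph_eq_one_of_syl h.syl (sup_le TC (zpowers_le.2 (mem_C1.2 hd)))
      (e1 ▸ h.zc) (by rw [e1, sq, h.z2]))
  obtain ⟨g, hg, m, hp⟩ := h.st.zs h.syl (mem_sup_left hu) huL hZ (h2 ▸ h.zZ)
  have mT : g⁻¹ * u * g ∈ T := by_contra fun c => no g w (h.ph_w m c).2
  have q : (g⁻¹ * u * g) ^ 2 = w ^ 2 := by rw [pq_cjsq, h2, CA.cc h.zc]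
  have c1 := ph_eq_one.1 ((h.tri mT (q ▸ h.zc)).resolve_right (no g d))
  refine hp (mem_Zl_of_center (ph_mem_of_normal huL g)
    (h.e_inv (mul_mem (inv_mem hu) mT) (hd.inv_left.mul_left c1) ?_))
  rw [ph, (mem_C1.1 (TC mT)).inv_left.mul_pow, q, inv_pow, h2, inv_mul_cancel]

/-- `e_inv` and `U` together. -/
theorem U' (h : CI c L d x w T) {u : G} (hu : u ∈ T) (huL : u ∈ L) (hd : Commute u d)
    (h2 : u ^ 2 = 1 ∨ u ^ 2 = w ^ 2) : u ∈ Zl L := by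
  exact h2.elim (fun e => mem_Zl_of_center huL (h.e_inv hu hd e)) (h.U hu huL hd)

/-- `𝓡 ∩ T ⊆ w Z`: `tri'` and `U'` (for `f` or `w f`, `(w f)^2 = ζ f^2`). -/
theorem R_T (h : CI c L d x w T) {f : G} (hf : f ∈ T) (hr : RR L w f) : w⁻¹ * f ∈ Zl L := by
  rcases h.tri' hf (h.RR_sq hr) with e | e
  · exact absurd (h.U' hf hr.1 e hr.2.2) hr.2.1
  · have := mul_mem (inv_mem h.zZ) (h.U' (mul_mem h.wT hf) (mul_mem h.wL hr.1) e (by
      rw [(mem_C1.1 (h.wc hf)).mul_pow]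
      rcases hr.2.2 with c | c <;> rw [c]
      exacts [Or.inr (mul_one _), Or.inl h.z2]))
    rwa [show (w ^ 2)⁻¹ * (w * f) = w⁻¹ * f by rw [sq]; group] at this

/-- `τ = f₁⁻¹ f₂ ∈ T ⊓ L`; `ν = ph f₁ f₂ ∈ {1, ζ}` (`St.ph_central`, `swap`, `y2d`);
`τ^2 = (f₁^2)⁻¹ f₂^2 ν⁻¹ ∈ {1, ζ}`; so `τ ∈ Z` or `τ ∈ 𝓡`, `R_T`. -/
theorem two (h : CI c L d x w T) {f₁ f₂ : G} (h₁ : f₁ ∈ Sd T d) (h₁' : f₁ ∉ T) (r₁ : RR L w f₁)
    (h₂ : f₂ ∈ Sd T d) (h₂' : f₂ ∉ T) (r₂ : RR L w f₂) (hc : f₂ ∈ Np L f₁) :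
    f₁⁻¹ * f₂ ∈ Zl L ∨ w⁻¹ * (f₁⁻¹ * f₂) ∈ Zl L := by
  obtain ⟨k, e⟩ := h.swap h₁ h₁' r₁
  have hT := ((mem_Sd k.pr.nm k.pr.sq).1 (e ▸ h₂)).resolve_left h₂'
  have c := (h.st.ph_central r₁.1 (CA.cm (h.RR_sq r₁) f₂) hc).1
  have z : ∀ a, a = 1 ∨ a = w ^ 2 → a ∈ zpowers (w ^ 2) := by
    rintro _ (rfl | rfl)
    exacts [one_mem _, mem_zpowers _]
  by_cases hZ : f₁⁻¹ * f₂ ∈ Zl L
  · exact Or.inl hZ
  refine Or.inr (h.R_T hT ⟨mul_mem (inv_mem r₁.1) r₂.1, hZ, pq_zp (by rw [sq, h.z2]) ?_⟩)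
  have e1 : (f₁⁻¹ * f₂) ^ 2 = f₁⁻¹ * (f₂ ^ 2 * (ph f₁ f₂)⁻¹) * f₁ * (f₁ ^ 2)⁻¹ := by
    simp only [sq, ph]; group
  rw [e1, CA.cc (mul_mem (h.RR_sq r₂) (inv_mem c))]
  exact mul_mem (mul_mem (z _ r₂.2.2) (inv_mem (z _ (k.y2d c)))) (inv_mem (z _ r₁.2.2))

/-- real elements of `T ⊓ L`: they lie in `Z ∪ w Z`.  If `u ^ 2 = 1`: `u ∈ Z` or `R_T`.  Otherwise a
power `u₁` of order 4 is inverted by `s`; `κ = u₁ ^ 2` is central (`sq_central`).  `tri`: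
`ph u₁ d = 1` contradicts `e_four`; so `ph u₁ d = ζ`, `ph u₁ s = κ⁻¹ = κ ≠ 1`, `y2` for `u₁` gives
`κ = ζ`.  `u₁ ∉ Z` (`s ∈ L` does not commute with it), so `R_T`: `u₁ ∈ w Z` commutes with `s`,
contradiction. -/
theorem real_T (h : CI c L d x w T) {u s : G} (hu : u ∈ T) (huL : u ∈ L) (hs : s ∈ T) (hsL : s ∈ L)
    (hi : Iv s u) : u ∈ Zl L ∨ w⁻¹ * u ∈ Zl L := by
  by_cases h2 : u ^ 2 = 1
  · by_cases hZ : u ∈ Zl L
    exacts [Or.inl hZ, Or.inr (h.R_T hu ⟨huL, hZ, Or.inl h2⟩)]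
  exfalso
  obtain ⟨k, hk⟩ := (Two.of_mem h.pr.pg hu).exists_four h2
  have a1 := pow_mem hu k
  have a2 := pow_mem huL k
  have a3 := hi.pow k
  generalize u ^ k = v at hk a1 a2 a3
  have n := CA.ne2 hk
  have c := h.st.hyp.sq_central a3 (hk ▸ pow_orderOf_eq_one v)
  have e1 := (h.tri a1 c).resolve_left fun e => n (h.e_four a1 (ph_eq_one.1 e) hs a3)
  have e2 := iv_iff_ph.1 a3
  have := h.st.hyp.y2 h.a1 a3 (not_central_of_iv a3 n) c (g := s) (k := d) (e2 ▸ inv_mem c)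
    (e1 ▸ h.zc)
  rw [e1, e2, inv_eq_one, inv_eq_iff_eq_inv, inv_eq_of_mul_eq_one_right h.z2] at this
  have m := h.R_T a1 ⟨a2, fun e => hy_not a3 n (comm_Zl e hsL).symm,
    Or.inr ((this.resolve_left n).resolve_left h.zne)⟩
  have := (mem_C1.1 (h.wc hs)).mul_left (comm_Zl m hsL).symm
  rw [mul_inv_cancel_left] at this
  exact hy_not a3 n this

/-- An odd `κ ∈ C_L(w)` centralizes every 2-subgroup `R ≤ C_L(w)` it normalizes.
Proof: `T` is Sylow in `C(w)` (`|T| = 2^c`, `Hyp.ub` for `w`), so `T ⊓ L` is Sylow in `C(w) ⊓ L` and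
`cj g R ≤ T ⊓ L` for some `g ∈ C(w) ⊓ L`.  By `real_T` each `u ∈ R` inverted by an element of `R`
lies in `Z ∪ wZ` (both sets are fixed elementwise by `g`), so commutes with `κ`.
`RealCls.mem_cent_of_real`. -/
theorem nilp (h : CI c L d x w T) {R : Subgroup G} (hR : IsPGroup 2 R) (hRL : R ≤ L) (hRw : R ≤ C1 w)
    {κ : G} (hκ : κ ∈ L) (hκw : Commute w κ) (ho : Odd (orderOf κ)) (hn : κ ∈ Nm R) : κ ∈ Ce R := by
  have hS := (hy_syl h.wc h.pr.card (h.st.hyp.ub h.ivw (not_central_of_iv h.ivw h.zne) le_rfl)).inf_normal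
    (K := C1 w ⊓ L) inf_le_left fun g hg => hz_mem_nm fun v hv =>
      mem_inf.2 ⟨mul_mem (mul_mem (inv_mem hg) (mem_inf.1 hv).1) hg, pq_cj.2 (mem_inf.1 hv).2⟩
  obtain ⟨g, hg, le⟩ := hS.exists_cj_le hR (le_inf hRw hRL)
  have m : ∀ a ∈ R, g⁻¹⁻¹ * a * g⁻¹ ∈ T := fun a ha => by
    rw [inv_inv]; exact (le ⟨a, ha, rfl⟩).1
  refine RealCls.mem_cent_of_real hR hn (Nat.coprime_two_right.2 ho) fun y hy u hu e => ?_
  have i : Iv y⁻¹ u := by rwa [Iv, inv_inv]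
  rcases h.real_T (m u hu) (pq_cj.2 (hRL hu)) (m _ (inv_mem hy)) (pq_cj.2 (hRL (inv_mem hy)))
    (i.conj g⁻¹) with c | c
  · exact comm_Zl (pq_cj.1 c) hκ
  · rw [inv_inv, ← mul_assoc, ← mul_assoc, (mem_C1.1 hg.1).inv_left.eq, mul_assoc g, ← inv_inv g,
      inv_inv g⁻¹] at c
    have := hκw.symm.mul_right (comm_Zl (pq_cj.1 c) hκ)
    rwa [mul_inv_cancel_left] at this

theorem Del_le (h : CI c L d x w T) : Del L d w T ≤ Sd T d ⊓ L := by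
  exact sup_le (le_inf (h.ZT.trans le_sup_left) Zl_le) ((closure_le _).2 fun f hf => ⟨hf.1, hf.2.1⟩)

theorem Del_nm (h : CI c L d x w T) : Sd T d ≤ Nm (Del L d w T) := by
  intro s hs
  have : Del L d w T ≤ (Del L d w T).comap (MulAut.conj s⁻¹).toMonoidHom := by
    refine sup_le (fun v hv => mem_comap.2 (mem_sup_left ?_)) ((closure_le _).2 fun f hf =>
      mem_comap.2 (mem_sup_right (subset_closure ?_)))
    · simpa using (pq_cj (k := s)).2 hv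
    · simpa using And.intro (mul_mem (mul_mem (inv_mem hs) hf.1) hs) (h.RR_conj hf.2 s)
  exact hz_mem_nm fun v hv => by simpa using this hv

end CI

end Cfsg.Agent.Rcs
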