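import Mathlib
import Cfsg.Agent.Rcs.Defs
import Cfsg.Agent.Rcs.CA

/-! S3860, Case I: odd order automorphisms of subgroups containing `w` and `Z`.  Notation as in CA. -/

set_option autoImplicit false
set_option linter.unusedSectionVars false
set_option linter.unusedVariables false

namespace Cfsg.Agent.Rcs

open Subgroup Cfsg.Agent.PLocal.CF

variable {G : Type*} [Group G] [Finite G] {c : ℕ}

variable {L : Subgroup G} [L.Normal] {d x w : G} {T : Subgroup G}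

theorem cb_nm {R : Subgroup G} {κ : G} (h : ∀ y ∈ R, κ * y * κ⁻¹ ∈ R) : κ ∈ Nm R :=
  PLocal.Amb.mem_normalizer_of_cj_le (PLocal.Amb.cj_le_iff_forall.2 h)

theorem cb_conj {a y κ : G} (h : Commute (κ⁻¹ * a * κ) y) : Commute a (κ * y * κ⁻¹) := by
  have := h.eq
  calc a * (κ * y * κ⁻¹) = κ * (κ⁻¹ * a * κ * y) * κ⁻¹ := by group
    _ = κ * y * κ⁻¹ * a := by rw [this]; group

/-- Case A of `kap`: `ph w κ ∈ Z`.  Then `κ` commutes with `w` (`St.comm_of_odd`).  `R₀ = R ⊓ C(w)`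
is normalized by `κ`, so centralized (`CI.nilp`).  For `r ∈ R \ R₀`: `r` and `r^κ` invert `w`
(`mem_T_iff`, `iv_w`), so `ρ = ph r κ ∈ R₀` commutes with `κ`; `commute_of_odd`. -/
theorem CI.kapA (h : CI c L d x w T) {R : Subgroup G} (hR : R ≤ Sd T d ⊓ L) {κ : G} (hκ : κ ∈ L)
    (ho : Odd (orderOf κ)) (hn : κ ∈ Nm R) (hw : ph w κ ∈ Zl L) {r : G} (hr : r ∈ R) :
    ph r κ = 1 := by
  have hc : Commute w κ := h.st.comm_of_odd h.wL h.zc (mem_Np.2 hw) ho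
  have pR : IsPGroup 2 R := h.syl.pg.to_le (hR.trans inf_le_left)
  have e : κ⁻¹ * w * κ = w := by rw [mul_assoc, hc.eq, inv_mul_cancel_left]
  have hC := h.nilp (R := R ⊓ C1 w) (pR.to_le inf_le_left) (inf_le_left.trans (hR.trans inf_le_right))
    inf_le_right hκ hc ho (cb_nm fun y hy => ⟨conj_mem_of_mem_nm hn hy.1, mem_C1.2 (cb_conj (e.symm ▸ mem_C1.1 hy.2))⟩)
  rw [ph_eq_one]
  by_cases hT : r ∈ T
  · exact mem_centralizer_iff.1 hC r ⟨hr, h.wc hT⟩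
  have i1 := h.iv_w (hR hr).1 hT
  have i2 := i1.conj κ
  rw [e] at i2
  have m := ph_mem_of_nm hr hn
  exact commute_of_odd (mem_centralizer_iff.1 hC _ ⟨m, mem_C1.2 (i2.comm_mul i1.symm')⟩).symm (Two.of_mem pR m) ho

/-- Proof.  By `kapA` assume `f = κ⁻¹ w κ ∉ w Z`.  For every `k ∈ ⟨κ⟩`, `w_k = k⁻¹ w k ∈ R` is in `𝓡`
(`RR_conj`) and `R ≤ Np L w_k` (`S_le_Np`, `mem_Np_conj`, `k ∈ Nm R`).  `f ∉ T` by `R_T`.  Let
`F = Z ⊔ closure {w_k}` (normalized by `κ`, `F ≤ R`, `F ≤ Del`).  By `R_T` and `two` every `w_k` lies in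
`w Z`, `f Z` or `f w Z`.  So `R₁ = R ⊓ C(w) ⊓ C(f) = R ⊓ C(F)` (`Z` commutes with `R ≤ L`) is normalized
by `κ`.  `h' = swap` (for `f`): `R₁ ≤ T ⊓ C(f)`; `u, s ∈ R₁` with `Iv s u` ⇒ `u^2 = 1` (`h'.e_four`) ⇒
`u` central (`h'.e_inv`); so `κ ∈ Ce R₁` (`RealCls.mem_cent_of_real`).  Every `r ∈ R` is `r₁ φ`,
`r₁ ∈ R₁`, `φ ∈ {1, w, f, w f}`-ish: if `r ∉ T` replace `r` by `r f⁻¹ ∈ T`; then `ph f r ∈ {1, ζ}`
(`St.ph_central`, `h'.y2d`), if `ζ` replace `r` by `r w⁻¹` (`ph f w = ζ`, `ph_mul`).  Then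
`ph (r₁ φ) κ = ph φ κ ∈ F ≤ Del` (`ph_mul_left`). -/
theorem CI.kap (h : CI c L d x w T) {R : Subgroup G} (hZ : Zl L ≤ R) (hR : R ≤ Sd T d ⊓ L)
    (hw : w ∈ R) {κ : G} (hκ : κ ∈ L) (ho : Odd (orderOf κ)) (hn : κ ∈ Nm R) {r : G} (hr : r ∈ R) :
    ph r κ ∈ Del L d w T := by
  by_cases hA : ph w κ ∈ Zl L
  · rw [h.kapA hR hκ ho hn hA hr]; exact one_mem _
  have RS : R ≤ Sd T d := hR.trans inf_le_left
  have RL : R ≤ L := hR.trans inf_le_right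
  have pR : IsPGroup 2 R := h.syl.pg.to_le RS
  have cR : ∀ {a}, a ∈ R → κ⁻¹ * a * κ ∈ R := fun ha => by simpa using conj_mem_of_mem_nm (inv_mem hn) ha
  have cN : ∀ {a}, R ≤ Np L a → R ≤ Np L (κ⁻¹ * a * κ) := fun ha g hg => by
    have := (mem_Np_conj (k := κ)).2 (ha (conj_mem_of_mem_nm hn hg))
    simpa [mul_assoc] using this
  have hD : ∀ {a}, a ∈ R → RR L w a → a ∈ Del L d w T := fun ha ha' => mem_sup_right (subset_closure ⟨RS ha, ha'⟩)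
  have fR := cR hw
  have fr := h.RR_conj h.wRR κ
  have fN := cN (RS.trans h.S_le_Np)
  have fT : κ⁻¹ * w * κ ∉ T := fun e => hA (h.R_T e fr)
  obtain ⟨f, hf⟩ : ∃ f, f = κ⁻¹ * w * κ := ⟨_, rfl⟩
  rw [← hf] at fR fr fN fT
  have gR := cR fR
  have gr := h.RR_conj fr κ
  have h' := (h.swap (RS fR) fT fr).1
  have n1 : κ ∈ Nm (R ⊓ C1 w ⊓ C1 f) := cb_nm fun y hy => by
    have c1 : Commute w y := mem_C1.1 hy.1.2
    have c2 : Commute f y := mem_C1.1 hy.2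
    have cz : ∀ {z}, z ∈ Zl L → Commute z y := fun hz => (comm_Zl hz (RL hy.1.1)).symm
    refine ⟨⟨conj_mem_of_mem_nm hn hy.1.1, mem_C1.2 (cb_conj (hf ▸ c2))⟩, mem_C1.2 (cb_conj ?_)⟩
    by_cases gT : κ⁻¹ * f * κ ∈ T
    · simpa using c1.mul_left (cz (h.R_T gT gr))
    · rcases h.two (RS fR) fT fr (RS gR) gT gr (fN gR) with e | e
      · simpa using c2.mul_left (cz e)
      · simpa using c2.mul_left (c1.mul_left (cz e))
  have mT : ∀ {y}, y ∈ R ⊓ C1 w ⊓ C1 f → y ∈ T := fun hy => (h.mem_T_iff (RS hy.1.1)).2 (mem_C1.1 hy.1.2)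
  have c1 := RealCls.mem_cent_of_real (pR.to_le (inf_le_left.trans inf_le_left)) n1 (Nat.coprime_two_right.2 ho)
    fun s hs u hu e => mem_center_iff.1 (h'.e_inv (mT hu) (mem_C1.1 hu.2).symm
      (h'.e_four (mT hu) (mem_C1.1 hu.2).symm (inv_mem (mT hs)) (by rw [Iv, inv_inv, e]))) κ
  have dec : ∀ r ∈ R, r ∈ T → ∃ r₁ ∈ R ⊓ C1 w ⊓ C1 f, ∃ φ, φ ∈ Del L d w T ∧ κ⁻¹ * φ * κ ∈ Del L d w T ∧
      r = r₁ * φ := fun r hr hT => by
    have c2 := (h.st.ph_central fr.1 (mem_center_iff.1 (h.RR_sq fr) r).symm (fN hr)).1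
    rcases h'.y2d c2 with e | e
    · exact ⟨r, ⟨⟨hr, h.wc hT⟩, mem_C1.2 (ph_eq_one.1 e)⟩, 1, one_mem _, by simp, by simp⟩
    · have e2 := (h.ph_w (RS fR) fT).2
      refine ⟨r * w⁻¹, ⟨⟨R.mul_mem hr (R.inv_mem hw), h.wc (mul_mem hT (inv_mem h.wT))⟩, mem_C1.2 (ph_eq_one.1 ?_)⟩,
        w, hD hw h.wRR, hf ▸ hD fR fr, by simp⟩
      rw [ph_mul c2, pq_inv (e2 ▸ h.zc), e, e2, mul_inv_cancel]
  have key : ∃ r₁ ∈ R ⊓ C1 w ⊓ C1 f, ∃ φ, φ ∈ Del L d w T ∧ κ⁻¹ * φ * κ ∈ Del L d w T ∧ r = r₁ * φ := by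
    by_cases hT : r ∈ T
    · exact dec r hr hT
    · have m := mul_mem hr (inv_mem fR)
      obtain ⟨r₁, h1, φ, h2, h3, e⟩ := dec _ m ((h.mem_T_iff (RS m)).2
        ((h.iv_w (RS fR) fT).symm'.comm_mul (h.iv_w (RS hr) hT)))
      refine ⟨r₁, h1, φ * f, mul_mem h2 (hD fR fr), ?_, by rw [← mul_assoc, ← e, inv_mul_cancel_right]⟩
      simpa [mul_assoc] using mul_mem h3 (hD gR gr)
  obtain ⟨r₁, h1, φ, h2, h3, rfl⟩ := key
  rw [ph_mul_left, ph_eq_one.2 (mem_centralizer_iff.1 c1 r₁ h1), mul_one, inv_mul_cancel, one_mul]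
  exact mul_mem (inv_mem h2) h3

end Cfsg.Agent.Rcs
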