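import Mathlib
import Cfsg.Agent.Rcs.Defs
import Cfsg.Agent.Rcs.CB
import Cfsg.Agent.S0080
import Cfsg.Agent.Grp.PFrattini

/-! S3860, Case I: the focal subgroup argument. -/

set_option autoImplicit false
set_option linter.unusedSectionVars false

namespace Cfsg.Agent.Rcs

open Subgroup Cfsg.Agent.PLocal.CF

variable {G : Type*} [Group G] [Finite G] {c : ℕ}

/-- a subgroup `K ≤ N` containing a Sylow 2-subgroup of `N` and all odd order elements of `N` is `N`.
Proof: `O = closure {odd order elements of N}` is normal in `N`, `N / O` is a 2-group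
(`exists_parts`), so `N = O Q`. -/
theorem eq_of_syl_odd {K N Q : Subgroup G} (hQ : Syl 2 Q N) (hQK : Q ≤ K)
    (hodd : ∀ g ∈ N, Odd (orderOf g) → g ∈ K) : N ≤ K := by
  intro g hg
  let O : Subgroup N := normalClosure {y : N | Odd (orderOf y)}
  have hO : O ≤ K.subgroupOf N := (closure_le _).2 fun y hy => by
    obtain ⟨a, ha, e⟩ := Group.mem_conjugatesOfSet_iff.1 hy
    obtain ⟨k, rfl⟩ := isConj_iff.1 e
    refine hodd (k * a * k⁻¹ : N) (k * a * k⁻¹).2 ?_
    rw [Subgroup.orderOf_coe, ← MulAut.conj_apply, MulEquiv.orderOf_eq]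
    exact ha
  have h2 : IsPGroup 2 ((⊤ : Subgroup N).map (QuotientGroup.mk' O)) := isPGroup_of_two (by
    rintro _ ⟨y, -, rfl⟩
    obtain ⟨i, j, ⟨k, hk⟩, hj, e⟩ := exists_parts y
    have e1 : QuotientGroup.mk' O (y ^ j) = 1 := (QuotientGroup.eq_one_iff _).2 (subset_normalClosure hj)
    exact ⟨k, by rw [← e, map_mul, e1, mul_one, ← map_pow, hk, map_one]⟩)
  have h3 := (hQ.subgroupOf.map (QuotientGroup.mk' O)).eq_of_le h2 (map_mono le_top) le_rfl
  obtain ⟨q, hq, e⟩ : QuotientGroup.mk' O ⟨g, hg⟩ ∈ (Q.subgroupOf N).map (QuotientGroup.mk' O) :=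
    h3 ▸ mem_map_of_mem _ (mem_top _)
  have h4 : (q : G)⁻¹ * g ∈ K := hO (QuotientGroup.eq.1 e)
  simpa using mul_mem (hQK hq) h4

/-- Pure fusion lemma.  Proof: `D' = D ⊔ ⁅S, S⁆` (normal in `S`, `S / D'` abelian).  Apply
`alperin_ind_centric` (`H = ⊤`, `𝓕 = univ`, `exists_fullyNormalized'`) to
`R T g := ∀ u ∈ T, u⁻¹ * (g * u * g⁻¹) ∈ D'`; base case by `eq_of_syl_odd`
(`K = {g ∈ Nm U | R U g}` is a subgroup, contains `S ⊓ Nm U`, and the odd elements by `h` for `g⁻¹`).
So the focal subgroup of `S` lies in `D'`; S0080 and perfectness: `S ≤ D'`.  Then the image of `S` in the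
2-group `S / D` is perfect and nilpotent, hence trivial. -/
theorem foc {X : Type*} [Group X] [Finite X] (hp : commutator X = ⊤) {S D : Subgroup X}
    (hS : Syl 2 S ⊤) (hD : D ≤ S) (hn : S ≤ Nm D)
    (h : ∀ U ≤ S, S ⊓ Ce U ≤ U → ∀ κ ∈ Nm U, Odd (orderOf κ) → ∀ u ∈ U, ph u κ ∈ D) : D = S := by
  have key := alperin_ind_centric hS Set.univ
    (fun T hT => by
      obtain ⟨g, hg, h1, h2, -⟩ := exists_fullyNormalized' hS hT
      exact ⟨g, hg, trivial, h1, h2⟩)
    (fun T g => ∀ u ∈ T, u⁻¹ * (g * u * g⁻¹) ∈ D ⊔ ⁅S, S⁆)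
    (fun T T' g hT _ _ _ k u hu => k u (hT hu))
    (fun T g k _ _ _ _ _ h1 h2 u hu => by
      have := mul_mem (h1 u hu) (h2 _ (mem_map_of_mem _ hu))
      convert this using 1
      simp only [MulEquiv.coe_toMonoidHom, MulAut.conj_apply]
      group)
    (fun T g _ _ _ h1 => by
      rintro _ ⟨u, hu, rfl⟩
      have := inv_mem (h1 u hu)
      convert this using 1
      simp only [MulEquiv.coe_toMonoidHom, MulAut.conj_apply]
      group)
    (fun T _ k hk u hu => by
      rw [conj_eq_of_mem_ce hk.2 hu, inv_mul_cancel]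
      exact one_mem _)
    (fun U _ hU hsyl hce _ => by
      let K : Subgroup X :=
        { carrier := {g | g ∈ Nm U ∧ ∀ u ∈ U, u⁻¹ * (g * u * g⁻¹) ∈ D ⊔ ⁅S, S⁆}
          mul_mem' := fun {a b} ha hb => ⟨mul_mem ha.1 hb.1, fun u hu => by
            have := mul_mem (hb.2 u hu) (ha.2 _ (conj_mem_of_mem_nm hb.1 hu))
            convert this using 1
            group⟩
          one_mem' := ⟨one_mem _, fun u _ => by simp⟩
          inv_mem' := fun {a} ha => ⟨inv_mem ha.1, fun u hu => by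
            have := inv_mem (ha.2 _ (conj_mem_of_mem_nm (inv_mem ha.1) hu))
            convert this using 1
            group⟩ }
      have hK : ⊤ ⊓ Nm U ≤ K := eq_of_syl_odd hsyl
        (fun s hs => ⟨hs.2, fun u hu => mem_sup_right (by
          have := commutator_mem_commutator (inv_mem (hU hu)) hs.1
          convert this using 1
          rw [commutatorElement_def]
          group)⟩)
        (fun g hg ho => ⟨hg.2, fun u hu => mem_sup_left (by
          have := h U hU hce g⁻¹ (inv_mem hg.2) (by rwa [orderOf_inv]) u hu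
          rwa [ph, inv_inv] at this)⟩)
      exact fun x hx => (hK hx).2)
  obtain ⟨P, rfl⟩ := hS.exists_sylow
  have h1 : (P : Subgroup X) ≤ D ⊔ ⁅(P : Subgroup X), (P : Subgroup X)⁆ := by
    have h2 := commutator_inf_eq_focalSubgroup P
    rw [hp, top_inf_eq] at h2
    refine h2.le.trans ((closure_le _).2 ?_)
    rintro _ ⟨hg, y, hy, u, rfl⟩
    have := key (zpowers y⁻¹) u (mem_top _) ((zpowers_le).2 (inv_mem hy)) (by
      rw [cj, MonoidHom.map_zpowers, zpowers_le]
      have := mul_mem (inv_mem hy) hg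
      convert this using 1
      simp only [MulEquiv.coe_toMonoidHom, MulAut.conj_apply, commutatorElement_def]
      group) _ (mem_zpowers _)
    rw [SetLike.mem_coe]
    convert this using 1
    rw [commutatorElement_def]
    group
  have h2 : D.subgroupOf P ⊔ commutator (P : Subgroup X) = ⊤ := by
    apply map_injective (P : Subgroup X).subtype_injective
    rw [Subgroup.map_sup, subgroupOf_map_subtype, map_subtype_commutator, ← MonoidHom.range_eq_map, range_subtype,
      inf_eq_left.2 hD]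
    exact le_antisymm (sup_le hD (commutator_le_self _)) h1
  have h3 := frattini_nongenerating (K := D.subgroupOf P) (top_le_iff.1 (h2.ge.trans
    (sup_le_sup_left (Grp.PFrattini.commutator_le_frattini P.2) _)))
  exact le_antisymm hD (subgroupOf_eq_top.1 h3)

variable {L : Subgroup G} [L.Normal] {d x w : G} {T : Subgroup G}

/-- Apply `foc` in `X = Qt L` with `P` from `St.exists_P` and `D = (Del.subgroupOf L).map (pi L)`.
For `U ≤ P` centric put `R = (U.comap (pi L)).map L.subtype`: `Z ≤ R ≤ S ⊓ L`; `π w ∈ P ⊓ Ce U`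
(`S_le_Np`, `pi_comm`), so `w ∈ R`; lift `κ` by `exists_odd_lift`; it normalizes `R`; `CI.kap`.
Finally `D = P` and `Z ≤ Del` give `S ⊓ L ≤ Del`. -/
theorem CI.Del_eq (h : CI c L d x w T) : Del L d w T = Sd T d ⊓ L := by
  obtain ⟨P, hP, -⟩ := h.st.exists_P h.syl
  have hs := QuotientGroup.mk'_surjective (center L)
  have key := foc (X := Qt L) h.st.perfect.commutator_eq_top (syl_top P)
    (D := ((Del L d w T).subgroupOf L).map (pi L))
    (by rintro _ ⟨y, hy, rfl⟩; exact (hP y).2 (h.Del_le hy).1)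
    (fun s hs' => hz_mem_nm (by
      obtain ⟨s, rfl⟩ := hs s
      rintro _ ⟨y, hy, rfl⟩
      exact ⟨s⁻¹ * y * s, hz_nm (R := Del L d w T) (h.Del_nm ((hP s).1 hs')) hy, by simp only [map_mul, map_inv]⟩))
    (fun U hU hce κ hκ ho u hu => by
      obtain ⟨k, rfl, hk⟩ := exists_odd_lift κ ho
      obtain ⟨y, rfl⟩ := hs u
      refine ⟨ph y k, h.kap (R := (U.comap (pi L)).map L.subtype) (fun z hz => ⟨⟨z, Zl_le hz⟩, ?_, rfl⟩) ?_
        ⟨⟨w, h.wL⟩, hce ⟨(hP _).2 (mem_sup_left h.wT), fun v hv => ?_⟩, rfl⟩ k.2 hk (hz_mem_nm ?_) ⟨y, hu, rfl⟩,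
        by simp only [ph, map_mul, map_inv]⟩
      · rw [SetLike.mem_coe, mem_comap, (pi_eq_one (x := ⟨z, Zl_le hz⟩)).2 hz]
        exact one_mem _
      · rintro _ ⟨v, hv, rfl⟩
        exact ⟨(hP v).1 (hU hv), v.2⟩
      · obtain ⟨v, rfl⟩ := hs v
        exact ((pi_comm (x := ⟨w, h.wL⟩) (y := v)).2 (h.S_le_Np ((hP v).1 (hU hv)))).symm.eq
      · rintro _ ⟨v, hv, rfl⟩
        refine ⟨k⁻¹ * v * k, ?_, rfl⟩
        rw [SetLike.mem_coe, mem_comap, map_mul, map_mul, map_inv]
        exact hz_nm hκ hv)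
  refine le_antisymm h.Del_le fun s hs' => ?_
  obtain ⟨y, hy, e⟩ := key.ge ((hP ⟨s, hs'.2⟩).2 hs'.1)
  have := mul_mem (show (y : G) ∈ Del L d w T from hy) (mem_sup_left (pi_eq.1 e))
  simpa using this

end Cfsg.Agent.Rcs
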