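import Mathlib
import Cfsg.Agent.Rcs.Defs
import Cfsg.Agent.Rcs.Foc
import Cfsg.Agent.Rcs.Quo
import Cfsg.Agent.Inv.Dihedral

/-! S3860, Case I: `S_L / Z` is dihedral.  Notation as in CA. -/

set_option autoImplicit false
set_option linter.unusedSectionVars false

namespace Cfsg.Agent.Rcs

open Subgroup Cfsg.Agent.PLocal.CF

variable {G : Type*} [Group G] [Finite G] {c : ℕ}

/-- a finite abelian 2-group with at most one involution is cyclic (search Mathlib/library first;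
e.g. `isCyclic_of_card_pow_eq_one_le`, or take `a` of maximal order). -/
theorem isCyclic_of_unique_inv {A : Type*} [CommGroup A] [Finite A] (hA : IsPGroup 2 A) (z : A)
    (h : ∀ a : A, a ^ 2 = 1 → a = 1 ∨ a = z) : IsCyclic A := by
  have key : ∀ k : ℕ, Nat.card (powMonoidHom (2 ^ k) : A →* A).ker ≤ 2 ^ k := by
    intro k
    induction k with
    | zero =>
      have : (powMonoidHom (2 ^ 0) : A →* A).ker = ⊥ := by
        ext a; simp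
      rw [this]; simp
    | succ k ih =>
      rw [Quo.cardK (powMonoidHom 2 : A →* A)]
      refine le_of_le_of_eq (Nat.mul_le_mul ?_ (le_trans (card_le_of_le ?_) ih)) (pow_succ' 2 k).symm
      · have : ((((powMonoidHom 2 : A →* A).ker ⊓ (powMonoidHom (2 ^ (k + 1)) : A →* A).ker :
            Subgroup A)) : Set A) ⊆ {1, z} := fun a ha => h a ha.1
        refine le_trans (Set.ncard_le_ncard this) ?_
        exact (Set.ncard_insert_le _ _).trans (by simp)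
      · rintro _ ⟨a, ha, rfl⟩
        have ha' : a ^ 2 ^ (k + 1) = 1 := ha
        show (a ^ 2) ^ 2 ^ k = 1
        rw [← pow_mul, ← pow_succ', ha']
  obtain ⟨g, hg⟩ := Monoid.exists_orderOf_eq_exponent (G := A) Monoid.ExponentExists.of_finite
  obtain ⟨k, hk⟩ := (IsPGroup.iff_orderOf.1 hA) g
  refine isCyclic_of_card_le_orderOf g ?_
  have : (powMonoidHom (2 ^ k) : A →* A).ker = ⊤ := by
    rw [eq_top_iff]
    intro a _
    show a ^ 2 ^ k = 1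
    rw [← hk, hg]; exact Monoid.pow_exponent_eq_one a
  have h1 := key k
  rwa [this, card_top, ← hk] at h1

/-- recognition of dihedral groups (search the library first). -/
theorem dihedral_of {X : Type*} [Group X] [Finite X] {a d : X} (hd : d ∉ zpowers a) (h2 : d ^ 2 = 1)
    (hi : Iv d a) (hX : ∀ g : X, g ∈ zpowers a ∨ d⁻¹ * g ∈ zpowers a) :
    Nonempty (X ≃* DihedralGroup (orderOf a)) := by
  have hs : d * d = 1 := by rw [← pow_two, h2]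
  have e : d⁻¹ = d := inv_eq_of_mul_eq_one_right hs
  have hi' : d * a * d⁻¹ = a⁻¹ := by
    have := hi
    unfold Iv at this
    rw [e] at this ⊢
    exact this
  obtain ⟨φ⟩ := Inv.Dihedral.nonempty_closure_equiv_dihedral (orderOf_pos a).ne' rfl hs hi' hd
  have ht : closure ({a, d} : Set X) = ⊤ := by
    rw [eq_top_iff]
    intro g _
    have ha : zpowers a ≤ closure ({a, d} : Set X) :=
      zpowers_le.2 (subset_closure (by simp))
    have hd' : d ∈ closure ({a, d} : Set X) := subset_closure (by simp)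
    rcases hX g with h | h
    · exact ha h
    · simpa using mul_mem hd' (ha h)
  exact ⟨(topEquiv.symm.trans (MulEquiv.subgroupCongr ht.symm)).trans φ⟩

variable {L : Subgroup G} [L.Normal] {d x w : G} {T : Subgroup G}

/-- `J₀ = {τ ∈ T ⊓ L | (d⁻¹ τ d) τ ∈ {1, ζ}}` (equivalently `(d τ)^2 ∈ {1, ζ}`) is commutative:
if `d` inverts `τ₁` or `τ₂` use `Pr.w_cent`.  Otherwise `dᵢ = d τᵢ ∈ 𝓡 \ T` have the same square
`d^2 ζ`, so `d₁` inverts `d₁⁻¹ d₂ = τ₁⁻¹ τ₂` (`iv_of_sq_eq`), which is central in `T` (`swap`,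
`Pr.w_cent`). -/
theorem CI.J_comm (h : CI c L d x w T) {τ σ : G} (hτ : τ ∈ T) (hτL : τ ∈ L)
    (hτ' : d⁻¹ * τ * d * τ = 1 ∨ d⁻¹ * τ * d * τ = w ^ 2) (hσ : σ ∈ T) (hσL : σ ∈ L)
    (hσ' : d⁻¹ * σ * d * σ = 1 ∨ d⁻¹ * σ * d * σ = w ^ 2) : Commute τ σ := by
  have hz := h.RR_sq h.dRR
  rcases hτ' with a | a
  · exact mem_C1.1 (h.pr.w_cent h.st.hyp hz hτ (eq_inv_of_mul_eq_one_left a) hσ)
  rcases hσ' with b | b
  · exact (mem_C1.1 (h.pr.w_cent h.st.hyp hz hσ (eq_inv_of_mul_eq_one_left b) hτ)).symm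
  have sq : ∀ ρ : G, (d * ρ) ^ 2 = d ^ 2 * (d⁻¹ * ρ * d * ρ) := fun ρ => by
    simp only [pow_two]; group
  have hn : d * τ ∉ T := fun e => h.pr.notMem (by simpa using T.mul_mem e (T.inv_mem hτ))
  have hS : d * τ ∈ Sd T d :=
    mul_mem (mem_sup_right (mem_zpowers d)) (mem_sup_left hτ)
  have p := (h.pr.swap hS hn).1
  have hi : Iv (d * τ) ((d * τ)⁻¹ * (d * σ)) := iv_of_sq_eq (by rw [sq, sq, a, b])
  have e : (d * τ)⁻¹ * (d * σ) = τ⁻¹ * σ := by group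
  rw [e] at hi
  have c1 := mem_C1.1 (p.w_cent h.st.hyp (by rw [sq, a]; exact mul_mem hz h.zc)
    (T.mul_mem (T.inv_mem hτ) hσ) hi hτ)
  have c2 := ((Commute.refl τ).mul_left c1).symm
  simpa using c2

/-- the subgroup `J₀`. -/
def CI.J0 (h : CI c L d x w T) : Subgroup G where
  carrier := {τ | τ ∈ T ∧ τ ∈ L ∧ (d⁻¹ * τ * d * τ = 1 ∨ d⁻¹ * τ * d * τ = w ^ 2)}
  one_mem' := ⟨T.one_mem, L.one_mem, Or.inl (by group)⟩
  mul_mem' := by
    rintro τ σ ⟨a1, a2, a3⟩ ⟨b1, b2, b3⟩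
    refine ⟨T.mul_mem a1 b1, L.mul_mem a2 b2, ?_⟩
    have hc := h.J_comm a1 a2 a3 b1 b2 b3
    have hz : d⁻¹ * σ * d * σ ∈ center G := by
      rcases b3 with b | b <;> rw [b]
      exacts [one_mem _, h.zc]
    have e : d⁻¹ * (τ * σ) * d * (τ * σ) = (d⁻¹ * τ * d * τ) * (d⁻¹ * σ * d * σ) := by
      rw [mul_assoc (d⁻¹ * τ * d), mem_center_iff.1 hz τ, mul_assoc (d⁻¹ * σ * d), ← hc.eq]; group
    rw [e]
    rcases a3 with a | a <;> rcases b3 with b | b <;> rw [a, b]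
    exacts [Or.inl (mul_one _), Or.inr (one_mul _), Or.inr (mul_one _), Or.inl h.z2]
  inv_mem' := by
    rintro τ ⟨a1, a2, a3⟩
    refine ⟨T.inv_mem a1, L.inv_mem a2, ?_⟩
    have e : d⁻¹ * τ⁻¹ * d * τ⁻¹ = τ * (d⁻¹ * τ * d * τ)⁻¹ * τ⁻¹ := by group
    rw [e]
    rcases a3 with a | a <;> rw [a]
    · left; group
    · right
      rw [inv_eq_of_mul_eq_one_right h.z2, mem_center_iff.1 h.zc τ, mul_inv_cancel_right]

theorem CI.w_J0 (h : CI c L d x w T) : w ∈ h.J0 :=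
  ⟨h.wT, h.wL, Or.inl (by rw [show d⁻¹ * w * d = w⁻¹ from h.ivw, inv_mul_cancel])⟩

theorem CI.eps (h : CI c L d x w T) {ε : G} (e : ε = 1 ∨ ε = w ^ 2) :
    ε ∈ Zl L ∧ ε ∈ center G ∧ ε * ε = 1 := by
  rcases e with rfl | rfl
  exacts [⟨one_mem _, one_mem _, mul_one _⟩, ⟨h.zZ, h.zc, h.z2⟩]

/-- `J₀` is a subgroup (by `J_comm`), `J = J₀ ⊔ Z = J₀ Z ≤ T` is normalized by `d`, `d ^ 2 ∈ J`.
`Sd J d` contains `Z` and `𝓡 ∩ S` (`R_T`: `w ∈ J₀`; `f ∉ T`: `d⁻¹ f ∈ J₀`), so `Del_eq` gives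
`S ⊓ L ≤ Sd J d`, and `T ⊓ L ≤ J` (`mem_Sd`, `d ∉ T`). -/
theorem CI.J_eq (h : CI c L d x w T) {τ : G} (hτ : τ ∈ T) (hτL : τ ∈ L) :
    ∃ σ ∈ T, σ ∈ L ∧ (d⁻¹ * σ * d * σ = 1 ∨ d⁻¹ * σ * d * σ = w ^ 2) ∧ σ⁻¹ * τ ∈ Zl L := by
  have hJT : h.J0 ⊔ Zl L ≤ T := sup_le (fun _ a => a.1) h.ZT
  have hn : d ∈ Nm (h.J0 ⊔ Zl L) := by
    refine hz_mem_nm fun v hv => ?_
    obtain ⟨σ, hσ, ν, hν, rfl⟩ := mem_sup_of_normal_right.1 hv
    have e : d⁻¹ * (σ * ν) * d = (d⁻¹ * σ * d * σ) * σ⁻¹ * (d⁻¹ * ν * d) := by group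
    rw [e]
    exact mul_mem (mul_mem (mem_sup_right (h.eps hσ.2.2).1) (mem_sup_left (inv_mem hσ)))
      (mem_sup_right (pq_cj.2 hν))
  have h2 : d ^ 2 ∈ h.J0 ⊔ Zl L := mem_sup_right (h.eps h.dsq).1
  have hD : Del L d w T ≤ Sd (h.J0 ⊔ Zl L) d := by
    refine sup_le (le_sup_right.trans le_sup_left) ((closure_le _).2 ?_)
    rintro f ⟨hf, hr⟩
    refine (mem_Sd hn h2).2 ?_
    rcases (mem_Sd h.pr.nm h.pr.sq).1 hf with a | a
    · left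
      have := mul_mem (mem_sup_left (T := Zl L) h.w_J0) (mem_sup_right (S := h.J0) (h.R_T a hr))
      simpa using this
    · right
      refine mem_sup_left ⟨a, L.mul_mem (L.inv_mem h.dL) hr.1, ?_⟩
      have e : d⁻¹ * (d⁻¹ * f) * d * (d⁻¹ * f) = (d ^ 2)⁻¹ * f ^ 2 := by
        simp only [pow_two]; group
      rw [e]
      rcases h.dsq with u | u <;> rcases hr.2.2 with v | v <;> rw [u, v]
      · left; simp
      · right; simp
      · right; rw [mul_one, inv_eq_of_mul_eq_one_right h.z2]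
      · left; simp
  rw [h.Del_eq] at hD
  rcases (mem_Sd hn h2).1 (hD ⟨mem_sup_left hτ, hτL⟩) with a | a
  · obtain ⟨σ, hσ, ν, hν, rfl⟩ := mem_sup_of_normal_right.1 a
    exact ⟨σ, hσ.1, hσ.2.1, hσ.2.2, by simpa using hν⟩
  · exact absurd (by simpa using T.inv_mem (T.mul_mem (hJT a) (T.inv_mem hτ))) h.pr.notMem

/-- unique involution of `(T ⊓ L) / Z`.  `τ = σ ν` (`J_eq`), `σ^2 ∈ Z` commutes with `d`, and
`d⁻¹ σ d = σ⁻¹ ζ^k`, so `σ^4 = 1`, `σ ^ 2` central (`St.z1`).  `tri'`: `ρ = σ` or `w σ` commutes with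
`d`; `ρ ∈ J₀` so `ρ^2 ∈ {1, ζ}`; `U'` gives `ρ ∈ Z`. -/
theorem CI.J_inv (h : CI c L d x w T) {τ : G} (hτ : τ ∈ T) (hτL : τ ∈ L) (h2 : τ ^ 2 ∈ Zl L) :
    τ ∈ Zl L ∨ w⁻¹ * τ ∈ Zl L := by
  obtain ⟨σ, s1, s2, s3, hν⟩ := h.J_eq hτ hτL
  obtain ⟨ν, rfl⟩ : ∃ ν, τ = σ * ν := ⟨σ⁻¹ * τ, by group⟩
  rw [inv_mul_cancel_left] at hν
  have hs : σ ^ 2 ∈ Zl L := by
    rw [(comm_Zl hν s2).mul_pow] at h2
    simpa using mul_mem h2 (inv_mem (pow_mem hν 2))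
  obtain ⟨-, e2, e3⟩ := h.eps s3
  have h4 : (σ ^ 2) ^ 2 = 1 := by
    have a : d⁻¹ * σ ^ 2 * d = σ ^ 2 := by
      rw [mul_assoc, ← (comm_Zl hs h.dL).eq, inv_mul_cancel_left]
    have b : d⁻¹ * σ ^ 2 * d = (d⁻¹ * σ * d * σ) * (σ⁻¹ * (d⁻¹ * σ * d * σ)) * σ⁻¹ := by
      simp only [pow_two]; group
    rw [mem_center_iff.1 e2, ← mul_assoc, e3, a] at b
    rw [pow_two (σ ^ 2)]
    nth_rewrite 1 [b]
    simp only [pow_two]; group
  have key : ∀ ρ ∈ h.J0, Commute ρ d → ρ ∈ Zl L := fun ρ r hc => by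
    refine h.U' r.1 r.2.1 hc ?_
    have := r.2.2
    rwa [mul_assoc d⁻¹, hc.eq, inv_mul_cancel_left, ← pow_two] at this
  have hσ : σ ∈ h.J0 := ⟨s1, s2, s3⟩
  rcases h.tri' s1 (h.st.z1 _ hs h4) with a | a
  · exact Or.inl (mul_mem (key _ hσ a) hν)
  · right
    have := mul_mem (mul_mem (inv_mem h.zZ) (key _ (mul_mem h.w_J0 hσ) a)) hν
    convert this using 1
    simp only [pow_two]; group

/-- `A = π(T ⊓ L) ≤ P` is abelian (`J_eq`, `J_comm`), a 2-group with unique involution `π w ≠ 1`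
(`J_inv`), so cyclic `= ⟨a⟩` of order `n ≥ 2`, inverted by `π d` (`J_eq`), `π d ∉ A` (`Z ≤ T`, `d ∉ T`),
`(π d)^2 = 1`, `P = A ∪ d A` (`mem_Sd`); `dihedral_of` in the group `P`. -/
theorem CI.dih (h : CI c L d x w T) (P : Sylow 2 (Qt L)) (hP : ∀ g : L, pi L g ∈ P ↔ (g : G) ∈ Sd T d) :
    ∃ n : ℕ, 2 ≤ n ∧ Nonempty ((P : Subgroup (Qt L)) ≃* DihedralGroup n) := by
  set A : Subgroup (Qt L) := (T.subgroupOf L).map (pi L) with hA
  have mA : ∀ g : L, pi L g ∈ A ↔ (g : G) ∈ T := fun g => by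
    refine ⟨?_, fun a => ⟨g, a, rfl⟩⟩
    rintro ⟨t, ht, e⟩
    have := T.mul_mem ht (h.ZT (pi_eq.1 e))
    simpa using this
  have hAP : A ≤ P := by
    rintro _ ⟨t, ht, rfl⟩
    exact (hP t).2 (mem_sup_left ht)
  have rep : ∀ a ∈ A, ∃ σ : L, (σ : G) ∈ h.J0 ∧ pi L σ = a := by
    rintro _ ⟨t, ht, rfl⟩
    obtain ⟨σ, s1, s2, s3, hν⟩ := h.J_eq ht t.2
    exact ⟨⟨σ, s2⟩, ⟨s1, s2, s3⟩, pi_eq.2 hν⟩
  let _ : CommGroup A := { (inferInstance : Group A) with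
    mul_comm := fun a b => by
      obtain ⟨σ, s, e⟩ := rep _ a.2
      obtain ⟨ρ, r, e'⟩ := rep _ b.2
      refine Subtype.ext ?_
      have : Commute σ ρ := Subtype.ext (h.J_comm s.1 s.2.1 s.2.2 r.1 r.2.1 r.2.2)
      show a.1 * b.1 = b.1 * a.1
      rw [← e, ← e', ← map_mul, ← map_mul, this.eq] }
  have hw : pi L ⟨w, h.wL⟩ ∈ A := (mA _).2 h.wT
  have hc : IsCyclic A := by
    refine isCyclic_of_unique_inv (P.isPGroup'.to_le hAP) ⟨_, hw⟩ fun a ha => ?_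
    obtain ⟨a, t, ht, rfl⟩ := a
    have h2 : pi L (t ^ 2) = 1 := by rw [map_pow]; exact congrArg Subtype.val ha
    rcases h.J_inv ht t.2 (pi_eq_one.1 h2) with u | u
    · exact Or.inl (Subtype.ext (pi_eq_one.2 u))
    · exact Or.inr (Subtype.ext (pi_eq.2 u).symm)
  obtain ⟨a, ha⟩ := hc.exists_generator
  obtain ⟨σ, s, e⟩ := rep _ a.2
  have hd : pi L ⟨d, h.dL⟩ ∈ P := (hP _).2 (mem_sup_right (mem_zpowers d))
  have mz : ∀ g : (P : Subgroup (Qt L)), g ∈ zpowers (⟨a.1, hAP a.2⟩ : (P : Subgroup (Qt L))) ↔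
      g.1 ∈ A := fun g => by
    constructor
    · rintro ⟨k, rfl⟩
      exact A.zpow_mem a.2 k
    · intro hg
      obtain ⟨k, hk⟩ := ha ⟨_, hg⟩
      have := congrArg Subtype.val hk
      exact ⟨k, Subtype.ext this⟩
  refine ⟨orderOf (⟨a.1, hAP a.2⟩ : (P : Subgroup (Qt L))), ?_,
    dihedral_of (d := ⟨_, hd⟩) (fun u => h.pr.notMem ((mA _).1 ((mz _).1 u))) ?_ ?_ fun g => ?_⟩
  · refine (Nat.two_le_iff _).2 ⟨(orderOf_pos _).ne', fun u => h.wZ ?_⟩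
    have := (mz ⟨_, hAP hw⟩).2 hw
    rw [orderOf_eq_one_iff.1 u, zpowers_one_eq_bot, mem_bot] at this
    exact pi_eq_one.1 (congrArg Subtype.val this)
  · refine Subtype.ext ?_
    show (pi L ⟨d, h.dL⟩) ^ 2 = 1
    rw [← map_pow]
    exact pi_eq_one.2 (h.eps h.dsq).1
  · refine Subtype.ext ?_
    show (pi L ⟨d, h.dL⟩)⁻¹ * a.1 * pi L ⟨d, h.dL⟩ = a.1⁻¹
    rw [eq_inv_iff_mul_eq_one, ← e, ← map_inv, ← map_mul, ← map_mul, ← map_mul]
    exact pi_eq_one.2 (h.eps s.2.2).1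
  · obtain ⟨g, hg⟩ := g
    obtain ⟨l, rfl⟩ : ∃ l, pi L l = g := QuotientGroup.mk'_surjective _ g
    rcases (mem_Sd h.pr.nm h.pr.sq).1 ((hP l).1 hg) with u | u
    · exact Or.inl ((mz _).2 ((mA l).2 u))
    · refine Or.inr ((mz _).2 ?_)
      show (pi L ⟨d, h.dL⟩)⁻¹ * pi L l ∈ A
      rw [← map_inv, ← map_mul]
      exact (mA _).2 u

end Cfsg.Agent.Rcs
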