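import Mathlib
import Cfsg.Agent.Rcs.Defs
import Cfsg.Agent.Rcs.TI
import Cfsg.Agent.Rcs.Qs

/-! S3860, Case II: `NI` forces `a ≥ 2`. -/

set_option autoImplicit false
set_option linter.unusedSectionVars false

namespace Cfsg.Agent.Rcs

open Subgroup Cfsg.Agent.PLocal.CF

variable {G : Type*} [Group G] [Finite G] {c : ℕ}

variable {L : Subgroup G} [L.Normal]

/-- a 2-element of `L` commuting with `x` and inverted by `d` is central:
`NI` excludes a power of order 4 (`Two.exists_four`), so `u ^ 2 = 1`, `u` commutes with `d`,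
`Hyp.mix_invol`. -/
theorem St.ni_cen (h : St c L) (hn : NI L) {d x u : G} (hd : SS L d) (hx : x ∈ L) (h1 : x ≠ 1)
    (ho : Odd (orderOf x)) (hi : Iv d x) (hu : u ∈ L) (h2 : Two u) (hc : Commute x u) (hiu : Iv d u) :
    u ^ 2 = 1 ∧ u ∈ center G := by
  have k : u ^ 2 = 1 := by
    by_contra k
    obtain ⟨n, hk⟩ := h2.exists_four k
    exact hn d x (u ^ n) hd hx h1 ho (pow_mem hu n) hk (hc.pow_right n) hi (hiu.pow n)
  refine ⟨k, h.hyp.mix_invol h1 ho k hc hi (ph_eq_one.1 ?_)⟩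
  rw [iv_iff_ph.1 hiu, k, inv_one]

/-- for `v ∈ T`, `ph v d ∈ T ⊓ L` is inverted by `d` (`iv_ph`), so central (`ni_cen`); `ph_swap`;
`mem_Sd`. -/
theorem St.ni_np (h : St c L) (hn : NI L) {d x : G} {T : Subgroup G} (hd : SS L d) (hx : x ∈ L)
    (p : Pr c x d T) : Sd T d ≤ Np L d := by
  refine sup_le (fun v hv => mem_Np_comm.1 (mem_Np.2 ?_))
    (zpowers_le.2 (C1_le_Np d (mem_C1.2 (Commute.refl d))))
  have k1 := ph_mem_of_nm hv p.nm
  have k2 : ph v d ∈ L := ph_mem_of_normal' v hd.1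
  exact mem_Zl_of_center k2 (h.ni_cen hn hd hx p.ne p.odd p.iv k2 (Two.of_mem p.pg k1)
    (mem_C1.1 (p.le k1)) (iv_ph (mem_center_iff.1 (hd.sq h) v))).2

/-- Suppose `a = 1`.  It suffices to show: for every `d ∈ SS`, `d ^ 2 = 1` and there is `f ∈ SS` with
`f ^ 2 ≠ 1` (then `St.exists_ss` gives a contradiction).  Let `d ∈ SS`; `St.exists_odd` gives `x`,
`exists_pr` (`U = ⊥`) gives `T`; `S = Sd T d` is Sylow (`Pr.syl_sd`), `S ≤ Np L d` (`ni_np`).
`St.zs`: `d' = g⁻¹ d g ∈ S`, `f = ph d g = d⁻¹ d' ∉ Z`, inverted by `d`; `d' ∈ SS`, `d'^2 = d^2`.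
`d' ∈ T`: otherwise `f ∈ T ⊓ L` is central by `ni_cen`, so in `Z`.  `μ = ph d d'` is central of square 1
(`St.ph_central`), `ph d' d = μ⁻¹ = μ`, and `f ^ 2 = μ`; so `f ∈ SS`, `f ∈ S \ T`.
If `d ^ 2 = 1`: `μ ≠ 1`, else `d'` is an involution inverted by `d`, central by `ni_cen`. Done.
If `d ^ 2 ≠ 1` (`ζ = d^2`): `y2` for `d` with `d'` and the inverter `i` (`ph d i = ζ⁻¹ = ζ`):
`μ = 1` or `μ = ζ`.  `μ = ζ`: `d` inverts `d'`, `ni_cen` gives `ζ = d'^2 = 1`.  `μ = 1`: `Pr.swap` to `f`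
and `ni_np` give `S ≤ Np L f`, so `S ≤ Np L d'` (`d' = d f`; `ph_mul_left` or compute in `G ⧸ Z`).
`S ≰ C(d')` (`Hyp.ub`, `card_sd`), so there is `s ∈ S` with `ph d' s ≠ 1`, and `s ∈ T` after multiplying
by `d⁻¹` (`d` commutes with `d'`); `y2` for `d'`: `ph d' s = ζ`, so `s` inverts `d'`;
`t = d * s` inverts `x` and `d'`; `Hyp.mix_iv` gives `d'^2 = 1`, contradiction. -/
theorem St.a2 (h : St c L) (hn : NI L) : 2 ^ (c + 2) ∣ Nat.card G := by
  by_contra ha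
  have key : ∀ d, SS L d → d ^ 2 = 1 ∧ ∃ f, SS L f ∧ f ^ 2 ≠ 1 := fun d hd => by
    obtain ⟨x, hx, h1, ho, hi⟩ := h.exists_odd hd.1 hd.2.1 hd.2.2.1
    obtain ⟨T, p, -⟩ := h.hyp.exists_pr h1 ho hi hd.two (U := ⊥) IsPGroup.of_bot bot_le
      (le_normalizer_of_normal (mem_top d))
    have dS : d ∈ Sd T d := mem_sup_right (mem_zpowers d)
    have np := h.ni_np hn hd hx p
    obtain ⟨g, hg, k1, k2⟩ := h.zs (p.syl_sd ha) dS hd.1 hd.2.1 hd.2.2.1
    have k3 := iv_ph_self hd.2.2.1 hg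
    have hd' := hd.conj g
    have e2 := sq_conj hd.2.2.1 hg
    have fL := ph_mem_of_normal hd.1 g
    rw [ph] at k2 k3 fL
    generalize g⁻¹ * d * g = d' at *
    have cen := fun {u : G} => h.ni_cen (u := u) hn hd hx h1 ho hi
    have k4 : d' ∈ T := ((mem_Sd p.nm p.sq).1 k1).resolve_right fun k =>
      k2 (mem_Zl_of_center fL (cen fL (Two.of_mem p.pg k) (mem_C1.1 (p.le k)) k3).2)
    have k5 : d⁻¹ * d' ∉ T := fun k => p.notMem (inv_mem_iff.1 ((T.mul_mem_cancel_right k4).1 k))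
    have cx : Commute x d' := mem_C1.1 (p.le k4)
    have zc := mem_center_iff.1 (hd.sq h)
    obtain ⟨m1, m2⟩ := h.ph_central hd.1 (zc d').symm (np k1)
    have e3 : (d⁻¹ * d') ^ 2 = ph d d' := by
      rw [ph]
      calc _ = d⁻¹ * d'⁻¹ * d' ^ 2 * d⁻¹ * d' := by simp only [pow_two]; group
        _ = _ := by rw [e2]; simp only [pow_two]; group
    have hf : SS L (d⁻¹ * d') := ⟨fL, k2, e3 ▸ mem_Np.1 (np k1), d, hd.1, hd.2.2.1, k3⟩
    by_cases c2 : d ^ 2 = 1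
    · refine ⟨c2, _, hf, fun k => hd'.nc (cen hd'.1 hd'.two cx
        (hy_iv (e2.trans c2) (ph_eq_one.1 (e3 ▸ k)).symm)).2⟩
    exfalso
    have e4 : (d ^ 2)⁻¹ = d ^ 2 := inv_eq_of_mul_eq_one_left (by rw [← pow_add]; exact hd.four)
    obtain ⟨i, -, -, hi1⟩ := hd.2.2.2
    have e5 := iv_iff_ph.1 hi1
    rcases h.hyp.y2 ha hi1 hd.nc (hd.sq h) m1 (k := i) (by rw [e5]; exact inv_mem (hd.sq h)) with k | k | k
    · have cm := ph_eq_one.1 k
      obtain ⟨p', e6⟩ := p.swap (mul_mem (inv_mem dS) k1) k5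
      have np' := h.ni_np hn hf hx p'
      rw [e6] at np'
      have np'' : Sd T d ≤ Np L d' := fun s hs => by
        rw [mem_Np, ← mul_inv_cancel_left d d', ph_mul_left]
        exact mul_mem (pq_cj.2 (mem_Np.1 (np hs))) (mem_Np.1 (np' hs))
      obtain ⟨i', -, -, hi2⟩ := hd'.2.2.2
      have e7 := iv_iff_ph.1 hi2
      obtain ⟨s, hs, hs'⟩ : ∃ s ∈ T, ¬ Commute d' s := by
        by_contra! k'
        refine h.hyp.ub hi2 hd'.nc (H := Sd T d)
          (sup_le (fun s hs => mem_C1.2 (k' s hs)) (zpowers_le.2 (mem_C1.2 cm.symm))) ?_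
        rw [p.card_sd]
      have m3 := (h.ph_central hd'.1 (mem_center_iff.1 (hd'.sq h) s).symm (np'' (mem_sup_left hs))).1
      rcases h.hyp.y2 ha hi2 hd'.nc (hd'.sq h) m3 (k := i')
        (by rw [e7]; exact inv_mem (hd'.sq h)) with k' | k' | k'
      · exact hs' (ph_eq_one.1 k')
      · rw [e7, inv_eq_one, e2] at k'
        exact c2 k'
      · have i3 : Iv s d' := iv_iff_ph.2 (k'.trans e7)
        have cs : Commute x s := mem_C1.1 (p.le hs)
        exact c2 (e2.symm.trans (h.hyp.mix_iv h1 ho hd'.two cx (hi.mul_right cs)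
          (i3.mul_left cm.symm) cs i3))
    · rw [e5, inv_eq_one] at k
      exact c2 k
    · refine c2 (e2.symm.trans (cen hd'.1 hd'.two cx (iv_iff_ph.2 ?_)).1)
      rw [ph_swap, k, e5, e2, e4, e4]
  obtain ⟨S, hS⟩ := exists_syl' 2 (⊤ : Subgroup G)
  obtain ⟨d, -, hd⟩ := h.exists_ss hS
  obtain ⟨-, f, hf, k⟩ := key d hd
  exact k (key f hf).1

end Cfsg.Agent.Rcs
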