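import Mathlib
import Cfsg.Agent.Rcs.Defs
import Cfsg.Agent.Rcs.TI
import Cfsg.Agent.Rcs.Qs
import Cfsg.Agent.Rcs.Hz
import Cfsg.Agent.S3861
import Cfsg.Agent.S0026

/-! S3860, Case II (`a ≥ 2`): centralizers of elements of `SS`. -/

set_option autoImplicit false
set_option linter.unusedSectionVars false

namespace Cfsg.Agent.Rcs

open Subgroup Cfsg.Agent.PLocal.CF

variable {G : Type*} [Group G] [Finite G] {c : ℕ}

variable {L : Subgroup G} [L.Normal]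

theorem db_two {g : G} (h : Two g) (k : G) : Two (k⁻¹ * g * k) := by
  obtain ⟨n, hn⟩ := h
  exact ⟨n, by simpa [hn] using conj_pow (a := k⁻¹) (b := g) (i := 2 ^ n)⟩

/-- DB.  If `f ^ 2 = 1`: `Hyp.invol`.  In general suppose `y ≠ 1`; replace `y` by a power of prime
order `p` (odd).  Let `i` be the inverter of `f` from `SS`; if `f ^ 2 = 1` we are done, else `i ∉ C(f)`.
`H = Sd (C1 f) i` (`i` normalizes `C(f)`, `i^2 ∈ Z ≤ C(f)`); odd order elements of `H` lie in `C(f)`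
(index 2).  An odd `x ≠ 1` in `C(f)` inverted by `i` gives `f` central (`Hyp.mix_central`), no.  So
`St.bs` gives a 2-subgroup `Q ∋ i` normalized by `H`.  `⟨y⟩` acts by conjugation on
`{j ∈ Q | j ∉ C(f)} = i (Q ⊓ C(f))`, of 2-power size, so fixes some `j`
(`IsPGroup.nonempty_fixed_point_of_prime_not_dvd_card`; alternatively: on the coset space; or use
`IsPGroup.card_modEq_card_fixedPoints` for `Q` and `Q ⊓ C(f)`).  `j` inverts `f` and commutes with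
`y`; `j * s` inverts `y` and `f`; `Hyp.mix_central` gives `f` central, contradiction. -/
theorem CII.db (h : CII c L) {f : G} (hf : SS L f) {y s : G} (hy : Commute f y) (hs : Commute f s)
    (ho : Odd (orderOf y)) (hi : Iv s y) : y = 1 := by
  by_cases h2 : f ^ 2 = 1
  · exact h.st.hyp.invol h2 hf.nc hy hs ho hi
  by_contra h1
  obtain ⟨i, iL, i2, hiv⟩ := hf.2.2.2
  have hZ : Zl L ≤ C1 f := fun z hz => mem_C1.2 (comm_Zl hz hf.1)
  have hn := hy_nm_iv hiv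
  have hH : Sd (C1 f) i ≤ Nm (C1 f) := sup_le le_normalizer (zpowers_le.2 hn)
  obtain ⟨Q, q1, q2, q3, q4⟩ := h.st.bs (H := Sd (C1 f) i) (hZ.trans le_sup_left) (mem_sup_right (mem_zpowers i))
    iL i2 fun x hx _ xo xi => by_contra fun x1 => hf.nc (h.st.hyp.mix_central h.a2 x1 xo hf.two
      (mem_C1.1 (PLocal.Amb.mem_of_pow_mem_of_coprime (n := 2) (((mem_Sd hn (hZ i2)).1 hx).elim (pow_mem · 2)
        (hy_sq hn (hZ i2))) xo.coprime_two_right)).symm xi hiv)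
  have y1 : zpowers y ≤ C1 f := zpowers_le.2 (mem_C1.2 hy)
  obtain ⟨n, hn2⟩ := IsPGroup.iff_card.1 q2
  have e := S0026.result (zpowers y) Q (y1.trans (le_sup_left.trans q3))
    (by rw [Nat.card_zpowers, hn2]; exact ho.coprime_two_right.pow_right n)
    (Or.inl (Group.isSolvable_of_comm fun ⟨_, i, rfl⟩ ⟨_, j, rfl⟩ => Subtype.ext (zpow_mul_comm y i j)))
  have k : ¬ Q ⊓ Ce (zpowers y) ≤ C1 f := fun k => hy_not hiv h2 (mem_C1.1 ((e.ge.trans (sup_le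
    (commutator_le.2 fun q hq a ha => mul_mem (conj_mem_of_mem_nm (hH (q1 hq)) (y1 ha)) (inv_mem (y1 ha))) k)) q4))
  obtain ⟨j, j1, j2⟩ := SetLike.not_le_iff_exists.1 k
  have j3 := hiv.mul_right (mem_C1.1 (((mem_Sd hn (hZ i2)).1 (q1 j1.1)).resolve_left j2))
  rw [mul_inv_cancel_left] at j3
  exact hf.nc (h.st.hyp.mix_central h.a2 h1 ho hf.two hy.symm (hi.mul_left (j1.2 y (mem_zpowers y)))
    (j3.mul_right hs))

/-- `C(f)` is 2-closed (S3861 in the group `C1 f`): its 2-elements form a subgroup of order `2^c`. -/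
theorem CII.closed (h : CII c L) {f : G} (hf : SS L f) :
    ∃ T : Subgroup G, (∀ u, u ∈ T ↔ Commute f u ∧ Two u) ∧ Nat.card T = 2 ^ c := by
  obtain ⟨T, hT⟩ := exists_syl' 2 (C1 f)
  obtain ⟨P, hP⟩ := hT.subgroupOf.exists_sylow
  have n := (S3861.result P).1 fun x x1 xo k => by
    obtain ⟨g, k⟩ := isConj_iff.1 k
    refine x1 (Subtype.ext (h.db hf (s := (g : G)⁻¹) (mem_C1.1 x.2) (mem_C1.1 (inv_mem g.2))
      (by rwa [Subgroup.orderOf_coe]) ?_))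
    rw [Iv, inv_inv]
    exact congrArg Subtype.val k
  rw [hP, normal_subgroupOf_iff_le_normalizer hT.le] at n
  obtain ⟨i, -, -, hiv⟩ := hf.2.2.2
  refine ⟨T, fun u => ⟨fun hu => ⟨mem_C1.1 (hT.le hu), Two.of_mem hT.pg hu⟩, fun hu => ?_⟩,
    hy_card hT (h.st.hyp.dvd hiv hf.nc) (h.st.hyp.ub hiv hf.nc le_rfl)⟩
  obtain ⟨g, hg, k⟩ := hT.exists_cj_le (hy_zp hu.2) (zpowers_le.2 (mem_C1.2 hu.1))
  exact (mem_normalizer_iff.1 (n hg) u).2 (k ⟨u, mem_zpowers u, rfl⟩)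

/-- The P×Q chain.  `T` from `closed`.  `exists_pr'` with `U = zpowers f`: `Pr c y t T'`, `f ∈ T'`.
Claim: for every `A` with `f ∈ A ≤ T'`, `R_A = T ⊓ Ce A` (= the 2-elements of `C(A)`, hence normalized
by `Nm A`) is centralized by `y`.  Strong induction on `|T'| - |A|`.  `A = T'`: `Pr.l5`
(`y ∈ Ce T'`, `t ∈ Nm T'`) gives `R ≤ T' ≤ C(y)`.  `A < T'`: `A' = T' ⊓ Nm A > A` (`lt_inf_nm`);
S0028 (P×Q) with `P = A'`, `Q = zpowers y`, `U = R_A`: `R_A ⊓ Ce A' ≤ R_{A'}` is centralized by `y`.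
Take `A = zpowers f`. -/
theorem CII.chain (h : CII c L) {f : G} (hf : SS L f) {y t : G} (hy : Commute f y) (h1 : y ≠ 1)
    (ho : Odd (orderOf y)) (hi : Iv t y) {u : G} (hu : Commute f u) (h2 : Two u) : Commute y u := by
  obtain ⟨T, hT, -⟩ := h.closed hf
  obtain ⟨t', T', p, hp⟩ := h.st.hyp.exists_pr' h1 ho hi (hy_zp hf.two) (zpowers_le.2 (mem_C1.2 hy.symm))
  have pT : ∀ A : Subgroup G, IsPGroup 2 ↥(T ⊓ Ce A) := fun A => isPGroup_of_two fun g hg => ((hT g).1 hg.1).2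
  have nm : ∀ A : Subgroup G, f ∈ A → Nm A ≤ Nm (T ⊓ Ce A) := fun A hA g hg => hz_mem_nm fun v hv =>
    mem_inf.2 ⟨(hT _).2 ⟨hz_nce hg hv.2 f hA, db_two ((hT v).1 hv.1).2 g⟩, hz_nce hg hv.2⟩
  have key : ∀ A : Subgroup G, f ∈ A → A ≤ T' → T ⊓ Ce A ≤ C1 y := fun A => by
    induction A using WellFoundedGT.induction with
    | ind A ih =>
      intro a1 a2
      have y1 : y ∈ Nm (T ⊓ Ce A) := nm A a1 (centralizer_le_normalizer _ (hz_ce.2 (a2.trans p.le)))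
      rcases a2.eq_or_lt with rfl | a3
      · exact (p.l5 h.st.hyp (pT _) inf_le_right y1 (nm _ a1 p.nm)).trans p.le
      have a4 := lt_inf_nm p.pg a3
      refine hz_ce.1 (zpowers_le.1 (S0028.result 2 (T' ⊓ Nm A) (zpowers y) _ (p.pg.to_le inf_le_left)
        (by rw [Nat.card_zpowers]; exact ho.coprime_two_right) (pT A) ?_ (inf_le_right.trans (nm A a1))
        (zpowers_le.2 y1) ?_)) <;> rw [PLocal.Amb.centralizer_zpowers]
      · exact inf_le_left.trans p.le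
      · exact (inf_le_inf_right _ inf_le_left).trans (ih _ a4 (a4.le a1) inf_le_left)
  refine mem_C1.1 (key _ (mem_zpowers f) hp ⟨(hT u).2 ⟨hu, h2⟩, ?_⟩)
  rw [Ce, PLocal.Amb.centralizer_zpowers]
  exact mem_C1.2 hu

/-- pure 2-group lemma: in a 2-group with two involutions, every element commutes with an involution
different from it (`t` central: one of `a, b` differs from `t`; else take a central involution). -/
theorem exists_comm_inv {X : Type*} [Group X] [Finite X] (hX : IsPGroup 2 X) {a b : X}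
    (ha : a ≠ 1) (hb : b ≠ 1) (hab : a ≠ b) (ha2 : a ^ 2 = 1) (hb2 : b ^ 2 = 1) (t : X) :
    ∃ s : X, s ≠ 1 ∧ s ≠ t ∧ s ^ 2 = 1 ∧ Commute s t := by
  by_cases ht : t ∈ center X
  · rcases eq_or_ne a t with rfl | k
    · exact ⟨b, hb, hab.symm, hb2, mem_center_iff.1 ht b⟩
    · exact ⟨a, ha, k, ha2, mem_center_iff.1 ht a⟩
  have : Nontrivial X := ⟨⟨a, b, hab⟩⟩
  obtain ⟨z, hz⟩ := @exists_ne _ hX.center_nontrivial 1
  obtain ⟨k, k1, k2⟩ := Two.exists_pow_sq (u := (z : X)) (hX z) (Z := ⊥) fun e => hz (Subtype.ext e)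
  exact ⟨_, k1, fun e => ht (e ▸ pow_mem z.2 k), k2, (mem_center_iff.1 (pow_mem z.2 k) t).symm⟩

theorem db_quot {P T : Subgroup G} (hP : IsPGroup 2 P) (hn : P ≤ Nm T) {a b t : G} (ha : a ∈ P) (hb : b ∈ P)
    (ht : t ∈ P) (a1 : a ∉ T) (b1 : b ∉ T) (ab : a⁻¹ * b ∉ T) (a2 : a ^ 2 ∈ T) (b2 : b ^ 2 ∈ T) (t2 : t ^ 2 ∈ T) :
    ∃ s ∈ P, s ∉ T ∧ s ^ 2 ∈ T ∧ ph t s ∈ T ∧ s * t ∉ T := by
  have := normal_subgroupOf_of_le_normalizer hn
  let π := QuotientGroup.mk' (T.subgroupOf P)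
  have k : ∀ x, π x = 1 ↔ (x : G) ∈ T := fun x => QuotientGroup.eq_one_iff x
  obtain ⟨s, s1, s2, s3, s4⟩ := exists_comm_inv (hP.to_quotient (T.subgroupOf P)) (a := π ⟨a, ha⟩) (b := π ⟨b, hb⟩)
    (mt (k _).1 a1) (mt (k _).1 b1) (fun e => ab ((k (⟨a, ha⟩⁻¹ * ⟨b, hb⟩)).1 (by
      rw [map_mul, map_inv, e, inv_mul_cancel]))) (map_pow π _ 2 ▸ (k _).2 a2) (map_pow π _ 2 ▸ (k _).2 b2) (π ⟨t, ht⟩)
  obtain ⟨s, rfl⟩ := QuotientGroup.mk'_surjective _ s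
  refine ⟨s, s.2, mt (k _).2 s1, (k (s ^ 2)).1 (by rwa [map_pow]),
    (k ((⟨t, ht⟩ : P)⁻¹ * (s⁻¹ * (⟨t, ht⟩ : P) * s))).1 ?_, fun e => s2 ?_⟩
  · rw [map_mul, map_mul, map_mul, map_inv, map_inv, mul_assoc _ _ (π s), ← s4.eq, inv_mul_cancel_left, inv_mul_cancel]
  · have e1 := (k (s * ⟨t, ht⟩)).2 e
    have e2 := (k (⟨t, ht⟩ ^ 2)).2 t2
    rw [map_pow, pow_two, ← e1, map_mul] at e2
    exact (mul_right_cancel e2).symm

/-- DC.  Suppose `y ≠ 1`.  `T` from `closed`; `chain` gives `T ≤ C(y)`; `exists_pr'` with `U = T` and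
cardinalities give `Pr c y t T`.  `Np L f` normalizes `C(f)` (`ph f g` central), hence `T`.  Let `Σ` be
Sylow in `Np L f`; `T ≤ Σ`, `Σ ⊓ C(f) = T`, `|Σ| ≥ 2^(c+2)`, so (`exists_im`) there are `a, b ∈ Σ` with
`ph f a, ph f b` distinct `≠ 1`; `a^2, b^2 ∈ T`, `a, b, a⁻¹ b ∉ T`.  Let `P` be Sylow in `Nm T`
containing `Sd T t`; conjugate `a, b` into `P` by an element of `Nm T`.  In the 2-group `P / T`
find (`exists_comm_inv`) `s ∈ P \ T` with `s^2 ∈ T`, `ph t s ∈ T`, `s t ∉ T`.  `s t` is a 2-element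
and `T ⊔ Ce T ≤ C(f)` (`f ∈ T`), so `s t ∉ T ⊔ Ce T`.  `Pr.l6`. -/
theorem CII.dc (h : CII c L) {f : G} (hf : SS L f) (hN : 2 ^ (c + 2) ∣ Nat.card (Np L f)) :
    NoRe (C1 f) := by
  intro y hy t ho hi
  by_contra h1
  obtain ⟨T, hT, hc⟩ := h.closed hf
  have pT : IsPGroup 2 T := isPGroup_of_two fun g hg => ((hT g).1 hg).2
  have TC : T ≤ C1 f := fun g hg => mem_C1.2 ((hT g).1 hg).1
  obtain ⟨t', T', p, hp⟩ := h.st.hyp.exists_pr' h1 ho hi pT fun u hu =>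
    mem_C1.2 (h.chain hf (mem_C1.1 hy) h1 ho hi ((hT u).1 hu).1 ((hT u).1 hu).2)
  obtain rfl := eq_of_le_of_card_ge hp (by rw [hc, p.card])
  have cen : ∀ g ∈ Np L f, ph f g ∈ center G ∧ ph f g ^ 2 = 1 := fun g hg =>
    h.st.ph_central hf.1 (mem_center_iff.1 (hf.sq h.st) g).symm hg
  have NT : Np L f ≤ Nm T := fun g hg => hz_mem_nm fun v hv =>
    (hT _).2 ⟨mem_C1.1 (hz_nm (pq_nm (cen g hg).1) (TC hv)), db_two ((hT v).1 hv).2 g⟩
  obtain ⟨S, s1, s2⟩ := exists_syl pT (TC.trans (C1_le_Np (L := L) f))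
  obtain ⟨Y, -, y2, y3⟩ := exists_im (f := f) (A := S) fun s hs => (cen s (s2.le hs)).1
  have mT : ∀ s ∈ S, ph f s = 1 → s ∈ T := fun s hs e => (hT s).2 ⟨ph_eq_one.1 e, Two.of_mem s2.pg hs⟩
  rw [show S ⊓ C1 f = T from le_antisymm (fun s hs => mT s hs.1 (ph_eq_one.2 (mem_C1.1 hs.2))) (le_inf s1 TC),
    hc] at y3
  have y4 := hy_dvd s2 hN
  rw [← y3, pow_add, mul_comm, Nat.mul_dvd_mul_iff_right (by positivity)] at y4
  obtain ⟨u, hu, v, hv, w, hw, n1, n2, n3⟩ := (Set.two_lt_ncard (s := (Y : Set G)) (Set.toFinite _)).1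
    (lt_of_lt_of_le (by norm_num) (Nat.le_of_dvd (Nat.card_pos (α := Y)) y4))
  obtain ⟨a, ha, ea⟩ := (y2 _).1 (mul_mem (inv_mem hu) hv)
  obtain ⟨b, hb, eb⟩ := (y2 _).1 (mul_mem (inv_mem hu) hw)
  have nT : ∀ s ∈ T, ph f s = 1 := fun s hs => ph_eq_one.2 ((hT s).1 hs).1
  have sq : ∀ s ∈ S, s ^ 2 ∈ T := fun s hs =>
    mT _ (pow_mem hs 2) (pq_sq (cen s (s2.le hs)).1 (cen s (s2.le hs)).2)
  obtain ⟨P, p1, p2⟩ := exists_syl p.pg_sd (sup_le le_normalizer (zpowers_le.2 p.nm))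
  obtain ⟨g, hg, k⟩ := p2.exists_cj_le s2.pg (s2.le.trans NT)
  have m := mem_normalizer_iff.1 hg
  have tP : t' ∈ P := p1 (mem_sup_right (mem_zpowers t'))
  obtain ⟨s, r1, r2, r3, r4, r5⟩ := db_quot p2.pg p2.le (a := g * a * g⁻¹) (b := g * b * g⁻¹) (k ⟨a, ha, rfl⟩)
    (k ⟨b, hb, rfl⟩) tP (fun e => n1 (inv_mul_eq_one.1 (ea ▸ nT a ((m a).2 e))))
    (fun e => n2 (inv_mul_eq_one.1 (eb ▸ nT b ((m b).2 e))))
    (fun e => n3 (by
      rw [conj_inv, conj_mul] at e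
      have := ph_mul (cen a (s2.le ha)).1 (a⁻¹ * b)
      rw [mul_inv_cancel_left, nT _ ((m _).2 e), mul_one, ea, eb] at this
      exact (mul_left_cancel this).symm))
    (by rw [conj_pow]; exact (m _).1 (sq a ha)) (by rw [conj_pow]; exact (m _).1 (sq b hb)) p.sq
  exact p.l6 h.st.hyp (p2.le r1) r3 r4 r2 fun e => r5 ((hT _).2 ⟨mem_C1.1 (sup_le TC
    (show Ce T ≤ C1 f from fun x hx => mem_C1.2 (hx f ((hT f).2 ⟨Commute.refl f, hf.two⟩))) e), Two.of_mem p2.pg (mul_mem r1 tP)⟩)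

end Cfsg.Agent.Rcs
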