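import Mathlib
import Cfsg.Agent.Rcs.Defs
import Cfsg.Agent.Rcs.Qs

/-! S3860, Case II: `|Ω₁(Z(S_L / Z))| ≥ 4`. (uses Bas, Hy, Ph, Qs). -/

set_option autoImplicit false
set_option linter.unusedSectionVars false

namespace Cfsg.Agent.Rcs

open Subgroup Cfsg.Agent.PLocal.CF

variable {G : Type*} [Group G] [Finite G] {c : ℕ}

/-- averaging.  `Γ' = ρ.range` has odd order (`P ≤ ker`, `P.index` odd); `τ a = ∏ φ : ρ.range, φ a` is a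
homomorphism with `τ (ρ k a) = τ a` and `τ ν = ν ^ |Γ'|`.  So `ν ^ odd = 1`. -/
theorem avg {A Γ : Type*} [CommGroup A] [Group Γ] [Finite Γ] (ρ : Γ →* MulAut A) (P : Subgroup Γ)
    (hP : P ≤ ρ.ker) (ho : Odd P.index) {α β ν : A} {k k' : Γ} (hν : ∀ g, ρ g ν = ν) (h2 : ν ^ 2 = 1)
    (h : α⁻¹ * ρ k α * ν = β⁻¹ * ρ k' β) : ν = 1 := by
  have := Fintype.ofFinite Γ
  have : Finite ρ.range := Finite.of_surjective _ ρ.rangeRestrict_surjective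
  have := Fintype.ofFinite ρ.range
  have key : ∀ g a, ∏ φ : ρ.range, (φ : MulAut A) (ρ g a) = ∏ φ : ρ.range, (φ : MulAut A) a := fun g a =>
    Fintype.prod_equiv (Equiv.mulRight ⟨ρ g, g, rfl⟩) _ _ fun _ => rfl
  have e := congrArg (fun a => ∏ φ : ρ.range, (φ : MulAut A) a) h
  simp only [map_mul, map_inv, Finset.prod_mul_distrib, Finset.prod_inv_distrib, key, inv_mul_cancel,
    one_mul] at e
  rw [Finset.prod_congr rfl (g := fun _ => ν) (by rintro ⟨_, g, rfl⟩ -; exact hν g), Finset.prod_const,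
    Finset.card_univ, ← Nat.card_eq_fintype_card, ← index_ker] at e
  obtain ⟨m, hm⟩ := ho.of_dvd_nat (index_dvd_of_le hP)
  rwa [hm, pow_succ, pow_mul, h2, one_pow, one_mul] at e

/-- the same inside `G`: `Y ≤ Ω` normalized by `N`, `⁅Ω, P⁆ ≤ Y`, `Ω ≤ P ≤ N`, `|N : P|` odd.  Apply `avg`
to `A = Ω ⧸ Y.subgroupOf Ω`, `Γ = N` acting by conjugation (or directly: the product over a
transversal). -/
theorem avg' {N P Ω Y : Subgroup G} (hY : Y ≤ center G) (hYΩ : Y ≤ Ω) (hΩ : Ω ≤ P) (hPN : P ≤ N)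
    (hn : N ≤ Nm Ω) (ho : Odd (P.relIndex N)) (hc : ∀ u ∈ Ω, ∀ s ∈ P, ph u s ∈ Y)
    {α β ν k k' : G} (hα : α ∈ Ω) (hβ : β ∈ Ω) (hk : k ∈ N) (hk' : k' ∈ N) (hν : ν ∈ center G)
    (h2 : ν ^ 2 = 1) (h : ph α k * ν = ph β k') : ν ∈ Y := by
  have : Y.Normal := ⟨fun y hy g => by rwa [mem_center_iff.1 (hY hy) g, mul_inv_cancel_right]⟩
  let π := QuotientGroup.mk' Y
  have q : ∀ u ∈ Ω, ∀ s ∈ P, (π s)⁻¹ * π u * π s = π u := fun u hu s hs => by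
    have := (QuotientGroup.eq_one_iff _).2 (hc u hu s hs)
    exact (inv_mul_eq_one.1 this).symm
  let _ : CommGroup (Ω.map π) := { (inferInstance : Group (Ω.map π)) with
    mul_comm := by
      rintro ⟨_, a, ha, rfl⟩ ⟨_, b, hb, rfl⟩
      refine Subtype.ext ?_
      change π a * π b = π b * π a
      conv_rhs => rw [← q a ha b (hΩ hb)]
      group }
  let ψ : N →* Nm (Ω.map π) := (π.comp N.subtype).codRestrict _ fun g =>
    le_normalizer_map π (mem_map_of_mem π (hn g.2))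
  have νΩ : ν ∈ Ω := by
    rw [eq_inv_mul_iff_mul_eq.2 h]
    exact mul_mem (inv_mem (ph_mem_of_nm hα (hn hk))) (ph_mem_of_nm hβ (hn hk'))
  have := avg ((Ω.map π).normalizerMonoidHom.comp ψ) (P.subgroupOf N)
    (fun s hs => MulEquiv.ext (by
      rintro ⟨_, a, ha, rfl⟩
      have := q a ha _ (inv_mem hs)
      rw [map_inv, inv_inv] at this
      exact Subtype.ext this)) ho (α := ⟨π α, mem_map_of_mem π hα⟩) (β := ⟨π β, mem_map_of_mem π hβ⟩)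
    (ν := ⟨π ν, mem_map_of_mem π νΩ⟩) (k := ⟨k, hk⟩⁻¹) (k' := ⟨k', hk'⟩⁻¹)
    (fun g => Subtype.ext (by
      change π g * π ν * (π g)⁻¹ = π ν
      rw [← map_mul, mem_center_iff.1 hν, map_mul, mul_inv_cancel_right]))
    (Subtype.ext (by change π ν ^ 2 = 1; rw [← map_pow, h2, map_one]))
    (Subtype.ext (by
      change (π α)⁻¹ * (π k⁻¹ * π α * (π k⁻¹)⁻¹) * π ν = (π β)⁻¹ * (π k'⁻¹ * π β * (π k'⁻¹)⁻¹)
      simpa only [ph, map_mul, map_inv, inv_inv] using congrArg π h))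
  exact (QuotientGroup.eq_one_iff ν).1 (congrArg Subtype.val this)

variable {L : Subgroup G} [L.Normal]

theorem ea_ph {f g : G} : ph f g ∈ Zl L ↔
    Commute (QuotientGroup.mk' (Zl L) f) (QuotientGroup.mk' (Zl L) g) := mem_Np.symm.trans mem_C1

theorem ea_one {f : G} : f ∈ Zl L ↔ QuotientGroup.mk' (Zl L) f = 1 := (QuotientGroup.eq_one_iff f).symm

/-- `Om L S` is a subgroup containing `Z`, normalized by `Nm (S ⊓ L)`. -/
theorem St.exists_Om (h : St c L) {S : Subgroup G} (hS : Syl 2 S ⊤) :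
    ∃ Ω : Subgroup G, (∀ u, u ∈ Ω ↔ Om L S u) ∧ Zl L ≤ Ω ∧ Ω ≤ S ⊓ L ∧ Nm (S ⊓ L) ≤ Nm Ω := by
  refine ⟨
    { carrier := {u | Om L S u}
      mul_mem' := fun {a b} ha hb => ⟨mul_mem ha.1 hb.1, ea_one.2 (by
          rw [map_pow, map_mul, (ea_ph.1 (ha.2.2 b hb.1)).mul_pow, ← map_pow, ← map_pow, ea_one.1 ha.2.1,
            ea_one.1 hb.2.1, one_mul]), fun s hs => ea_ph.2 (by
          rw [map_mul]; exact (ea_ph.1 (ha.2.2 s hs)).mul_left (ea_ph.1 (hb.2.2 s hs)))⟩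
      one_mem' := ⟨one_mem _, by rw [one_pow]; exact one_mem _, fun s _ => ea_ph.2 (by
        rw [map_one]; exact Commute.one_left _)⟩
      inv_mem' := fun {a} ha => ⟨inv_mem ha.1, by rw [inv_pow]; exact inv_mem ha.2.1, fun s hs =>
        ea_ph.2 (by rw [map_inv]; exact (ea_ph.1 (ha.2.2 s hs)).inv_left)⟩ },
    fun u => Iff.rfl, fun z hz => ⟨⟨h.Zl_le_syl hS le_top hz, Zl_le hz⟩, pow_mem hz 2, fun s _ =>
      ea_ph.2 (by rw [ea_one.1 hz]; exact Commute.one_left _)⟩, fun u hu => hu.1,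
    fun g hg => mem_normalizer_fintype fun u hu => ⟨conj_mem_of_mem_nm hg hu.1, ?_, fun s hs => ?_⟩⟩
  · rw [conj_pow]; exact (Zl_normal L).conj_mem _ hu.2.1 g
  · have := (Zl_normal L).conj_mem' _ (hu.2.2 _ ((mem_normalizer_iff''.1 hg s).1 hs)) g⁻¹
    rw [← ph_conj] at this
    simpa [mul_assoc] using this

/-- Burnside modulo `Z`: `g⁻¹ u g = v ν`, `g ∈ L` (from `OneCl` twice).  `S_L = S ⊓ L` is Sylow in `L`
and lies in `Np L u` and `Np L v`; `cj g⁻¹ S_L ≤ Np L (g⁻¹ u g) = Np L v`; both are Sylow in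
`Np L v ⊓ L`, so conjugate by some `m` there; `n = g m`. -/
theorem St.burn (h : St c L) {S : Subgroup G} (hS : Syl 2 S ⊤) {z : G} (h1 : OneCl L z) {u v : G}
    (hu : Om L S u) (hu' : u ∉ Zl L) (hv : Om L S v) (hv' : v ∉ Zl L) :
    ∃ n ∈ L, n ∈ Nm (S ⊓ L) ∧ v⁻¹ * (n⁻¹ * u * n) ∈ Zl L := by
  have := Fact.mk Nat.prime_two
  obtain ⟨g₁, a1, a2⟩ := h1 u hu.1.2 hu' hu.2.1
  obtain ⟨g₂, b1, b2⟩ := h1 v hv.1.2 hv' hv.2.1
  set φ := QuotientGroup.mk' (Zl L)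
  have e : φ ((g₁ * g₂⁻¹)⁻¹ * u * (g₁ * g₂⁻¹)) = φ v := by
    rw [ea_one, map_mul, map_inv, inv_mul_eq_one] at a2 b2
    rw [show (g₁ * g₂⁻¹)⁻¹ * u * (g₁ * g₂⁻¹) = g₂ * (g₁⁻¹ * u * g₁) * g₂⁻¹ by group, map_mul, map_mul,
      ← a2, b2, ← map_mul, ← map_mul]
    congr 1; group
  have gL : g₁ * g₂⁻¹ ∈ L := mul_mem a1 (inv_mem b1)
  generalize g₁ * g₂⁻¹ = g at e gL
  have s1 : Syl 2 (S ⊓ L) (Np L v ⊓ L) := (hS.inf_normal le_top (normalizer_eq_top L).ge).of_le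
    (le_inf (fun s hs => mem_Np.2 (hv.2.2 s hs)) inf_le_right) inf_le_right
  obtain ⟨m, ⟨m1, m2⟩, m3⟩ := s1.exists_cj_le (B := cj g⁻¹ (S ⊓ L)) (s1.pg.map _) (by
    rintro _ ⟨s, hs, rfl⟩
    refine ⟨mem_Np.2 (ea_ph.2 ?_), ‹L.Normal›.conj_mem s hs.2 g⁻¹⟩
    rw [← e, ← ea_ph, ← mem_Np]
    simpa using (mem_Np_conj (k := g)).2 (mem_Np.2 (hu.2.2 s hs)))
  rw [cj_cj] at m3
  refine ⟨(m * g⁻¹)⁻¹, inv_mem (mul_mem m2 (inv_mem gL)), inv_mem (mem_normalizer_fintype fun s hs =>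
    m3 (mem_map_of_mem _ hs)), ea_one.2 ?_⟩
  rw [show (m * g⁻¹)⁻¹⁻¹ * u * (m * g⁻¹)⁻¹ = m * (g⁻¹ * u * g) * m⁻¹ by group, map_mul, map_mul, map_mul, e,
    ← (ea_ph.1 (mem_Np.1 m1)).eq, map_inv, map_inv]
  group

/-- EA.  `S_L = S ⊓ L`, `N = L ⊓ Nm S_L` (`|N : S_L|` odd), `Ω` from `exists_Om`; `z ∈ Ω`.  `Y` = image
of `ph z` on `S_L` (`exists_im`, `St.ph_central`); `|Y| |Z| < |S_L|` since `Z < S_L ⊓ C(z) ∋ z`.
`ph u s ∈ Y` for `u ∈ Ω`, `s ∈ S_L`: trivial for `u ∈ Z`; otherwise `u = n⁻¹ z n ν` (`burn`) and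
`ph u s = ph (n⁻¹ z n) s = ph z (n s n⁻¹)` (`ph_conj`, central).  `Y ≤ Z ≤ Ω`.
`burn` for `α` and `α z`: `k ∈ N` with `z₀ = ph α k ≡ z mod Z`; `α` inverts `z₀` (`iv_ph_self`), so
`z₀ ∈ SS` and `S ≤ Np L z₀` (`Np_mul`).  For `s ∈ S`: `ν = ph z₀ s` is central of square 1 and
`ph α k * ν = s⁻¹ z₀ s = ph (s⁻¹ α s) (s⁻¹ k s)` (`ph_conj`; `S ≤ Nm S_L`); `avg'` gives `ν ∈ Y`.
`Hyp.bound`: `|S| ≤ 2^c |Y|`. -/
theorem St.ea (h : St c L) {S : Subgroup G} (hS : Syl 2 S ⊤) {z : G} (hzS : z ∈ S) (hz : SS L z)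
    (hN : S ≤ Np L z) (h1 : OneCl L z) {α : G} (hα : Om L S α) (hZ : α ∉ Zl L)
    (hZ' : z⁻¹ * α ∉ Zl L) : Small c L S := by
  have := Fact.mk Nat.prime_two
  obtain ⟨Ω, o1, o2, o3, o4⟩ := h.exists_Om hS
  have pc : ∀ {f}, SS L f → S ≤ Np L f → ∀ s ∈ S, ph f s ∈ center G ∧ ph f s ^ 2 = 1 := fun hf hn s hs =>
    h.ph_central hf.1 (mem_center_iff.1 (hf.sq h) s).symm (hn hs)
  obtain ⟨Y, y1, y2, y3⟩ := exists_im (f := z) (A := S ⊓ L) fun s hs => (pc hz hN s hs.1).1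
  have zΩ : Om L S z := ⟨⟨hzS, hz.1⟩, hz.2.2.1, fun s hs => mem_Np.1 (hN hs.1)⟩
  have YZ : Y ≤ Zl L := fun ν hν => by
    obtain ⟨s, hs, rfl⟩ := (y2 ν).1 hν
    exact zΩ.2.2 s hs
  have lt : Nat.card (Zl L) < Nat.card (S ⊓ L ⊓ C1 z : Subgroup G) := card_lt_of_lt' (lt_of_le_not_ge
    (le_inf (o2.trans o3) fun ν hν => mem_C1.2 (comm_Zl hν hz.1)) fun k => hz.2.1 (k ⟨zΩ.1, mem_C1.2 rfl⟩))
  have hc : ∀ u ∈ Ω, ∀ s ∈ S ⊓ L, ph u s ∈ Y := fun u hu s hs => by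
    by_cases uZ : u ∈ Zl L
    · rw [ph_eq_one.2 (comm_Zl uZ hs.2).symm]; exact one_mem _
    obtain ⟨n, -, n2, n3⟩ := h.burn hS h1 zΩ hz.2.1 ((o1 u).1 hu) uZ
    have s' := conj_mem_of_mem_nm n2 hs
    have c := mem_center_iff.1 (pc hz hN _ s'.1).1
    have e := ph_conj z (n * s * n⁻¹) n
    rw [show n⁻¹ * (n * s * n⁻¹) * n = s by group, mul_assoc n⁻¹ (ph _ _), ← c, inv_mul_cancel_left] at e
    rw [show u = n⁻¹ * z * n * (u⁻¹ * (n⁻¹ * z * n))⁻¹ by group, ph_mul_left,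
      ph_eq_one.2 (comm_Zl (inv_mem n3) hs.2).symm, mul_one, e, mul_assoc, ← c, inv_mul_cancel_left]
    exact (y2 _).2 ⟨_, s', rfl⟩
  obtain ⟨k, k1, k2, k3⟩ := h.burn hS h1 hα hZ ((o1 _).1 (mul_mem ((o1 _).2 hα) ((o1 _).2 zΩ))) fun e =>
    hZ' (by
      have := (Zl_normal L).conj_mem' _ (mul_mem e (inv_mem hz.2.2.1)) z
      rwa [show z⁻¹ * (α * z * (z ^ 2)⁻¹) * z = z⁻¹ * α by group] at this)
  have e : ph α k = z * ((α * z)⁻¹ * (k⁻¹ * α * k)) := by rw [ph]; group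
  have iv := iv_ph_self hα.2.1 k1
  have s0 : SS L (ph α k) := ⟨ph_mem_of_normal hα.1.2 k, fun m => hz.2.1 ((mul_mem_cancel_right k3).1 (e ▸ m)),
    by rw [e, (comm_Zl k3 hz.1).mul_pow]; exact mul_mem hz.2.2.1 (pow_mem k3 2), α, hα.1.2, hα.2.1, iv⟩
  have n0 : S ≤ Np L (ph α k) := by rwa [e, Np_mul k3]
  have SN : S ≤ Nm (S ⊓ L) := fun s hs => mem_normalizer_fintype fun x hx =>
    ⟨S.mul_mem (S.mul_mem hs hx.1) (S.inv_mem hs), ‹L.Normal›.conj_mem _ hx.2 s⟩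
  have s1 : Syl 2 (S ⊓ L) (L ⊓ Nm (S ⊓ L)) := (hS.inf_normal le_top (normalizer_eq_top L).ge).of_le
    (le_inf inf_le_right le_normalizer) inf_le_left
  have b := h.hyp.bound iv s0.nc hS.pg y1 fun s hs => avg' y1 (YZ.trans o2) o3 s1.le (inf_le_right.trans o4)
    (Nat.not_even_iff_odd.1 (mt even_iff_two_dvd.1 s1.nd)) hc ((o1 _).2 hα)
    ((mem_normalizer_iff''.1 (o4 (SN hs)) α).1 ((o1 _).2 hα)) ⟨k1, k2⟩
    ⟨‹L.Normal›.conj_mem' _ k1 s, (Nm _).mul_mem (mul_mem (inv_mem (SN hs)) k2) (SN hs)⟩ (pc s0 n0 s hs).1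
    (pc s0 n0 s hs).2 (by rw [ph_conj, conj_eq_ph])
  unfold Small
  rw [← y3]
  calc _ ≤ 2 ^ c * Nat.card Y * Nat.card (Zl L) := Nat.mul_le_mul_right _ b
    _ < 2 ^ c * Nat.card Y * _ := Nat.mul_lt_mul_of_pos_left lt (Nat.mul_pos (by positivity) Nat.card_pos)
    _ = _ := by ring

end Cfsg.Agent.Rcs
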