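import Mathlib
import Cfsg.Agent.Rcs.Defs
import Cfsg.Agent.Rcs.Qs
import Cfsg.Agent.Transfer.Focal

/-! S3860, Case II: an `S`-invariant four-group not central in `S_L / Z`. -/

set_option autoImplicit false
set_option linter.unusedSectionVars false

namespace Cfsg.Agent.Rcs

open Subgroup Cfsg.Agent.PLocal.CF

variable {G : Type*} [Group G] [Finite G] {c : ℕ}

variable {L : Subgroup G} [L.Normal]

/-- EB.  `z' = ph a b ≡ z mod Z`, `a` inverts `z'` (`iv_ph_self`), `z' ∈ SS`, `S ≤ Np L z'`.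
`C = S ⊓ L ⊓ Np L a < S ⊓ L` (`b ∉ C`); for `g ∈ S ⊓ L`: `g ∈ C` or `g b⁻¹ ∈ C`; `C` is normalized by
`S` (mod `Z`, `a^s ∈ {a, a z}` and `z` is central in `S`).  `ψ = ph a` on `C` is central of square 1
(`St.ph_central`, `a^2 ∈ Z` commutes with `L`); `Y` = its image (`exists_im`), `|Y| |Z| ≤ |C| < |S ⊓ L|`.
Claim `ph z' s ∈ Y` for `s ∈ S`.  (i) `s` with `ph a s = ν ∈ Z`: `s⁻¹ b s = m b` with `m ∈ C`
(`s⁻¹ b s ∉ C`), `s⁻¹ z' s = ph (a ν) (m b) = ph a (m b) = ψ m * z'` (`ph_mul`), so `ph z' s = ψ m`.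
(ii) `s = b`: `ph a (b * b) = ph a b * (b⁻¹ z' b)` (`ph_mul'`), `b * b ∈ C`, so
`ph z' b = (z'^2)⁻¹ ψ(b b)`, and `z'^2 = ph a z' = ψ z'` (`a` inverts `z'`, `ph_swap`, `z' ∈ C`).
(iii) otherwise `s b⁻¹` is of type (i); `ph_mul`.  `Hyp.bound`: `|S| ≤ 2^c |Y|`. -/
theorem St.eb (h : St c L) {S : Subgroup G} (hS : Syl 2 S ⊤) {z : G} (hz : SS L z)
    (hN : S ≤ Np L z) {a b : G} (haS : a ∈ S) (haL : a ∈ L) (h2 : a ^ 2 ∈ Zl L)
    (hs : ∀ s ∈ S, ph a s ∈ Zl L ∨ z⁻¹ * ph a s ∈ Zl L) (hbS : b ∈ S) (hbL : b ∈ L)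
    (hb : ph a b ∉ Zl L) : Small c L S := by
  have A : ∀ {g k}, g ∈ S → k ∈ S → g ∉ Np L a → k ∉ Np L a → g * k ∈ Np L a :=
    fun {g k} hg hk ng nk => mem_Np.2 ((hs _ (mul_mem hg hk)).resolve_right fun e => ng (mem_Np.2 (by
      rw [ph_mul', ← mul_assoc, mul_mem_cancel_left ((hs k hk).resolve_left (mt mem_Np.2 nk))] at e
      exact pq_cj.1 e)))
  have nb : b ∉ Np L a := mt mem_Np.1 hb
  have cen : ∀ s ∈ S ⊓ L ⊓ Np L a, ph a s ∈ center G := fun s hs =>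
    (h.ph_central haL (comm_Zl h2 hs.1.2).symm hs.2).1
  obtain ⟨Y, Yc, hY, cY⟩ := exists_im cen
  have iv : Iv a (ph a b) := iv_ph_self h2 hbL
  have zL : ph a b ∈ L := ph_mem_of_normal haL b
  have zS : ph a b ∈ S := mul_mem (inv_mem haS) (mul_mem (mul_mem (inv_mem hbS) haS) hbS)
  have zN : S ≤ Np L (ph a b) := by
    rw [← mul_inv_cancel_left z (ph a b), Np_mul ((hs b hbS).resolve_left hb)]
    exact hN
  have k1 : ∀ s ∈ S, s ∈ Np L a → ph (ph a b) s ∈ Y := fun s hsS hsN => by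
    have m : s⁻¹ * b * s * b⁻¹ ∈ S ⊓ L ⊓ Np L a :=
      mem_inf.2 ⟨mem_inf.2 ⟨mul_mem (mul_mem (mul_mem (inv_mem hsS) hbS) hsS) (inv_mem hbS),
        mul_mem (pq_cj.2 hbL) (inv_mem hbL)⟩,
        A (mul_mem (mul_mem (inv_mem hsS) hbS) hsS) (inv_mem hbS) (by
          rwa [mul_mem_cancel_right hsN, mul_mem_cancel_left (inv_mem hsN)]) (by rwa [inv_mem_iff])⟩
    refine (hY _).2 ⟨_, m, ?_⟩
    have hν := mem_Np.1 hsN
    have bL : s⁻¹ * b * s ∈ L := pq_cj.2 hbL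
    have e := ph_conj a b s
    rw [conj_eq_ph a s, ph_mul_left, ph_eq_one.2 (comm_Zl hν bL).symm, mul_one, mul_assoc,
      (comm_Zl hν (ph_mem_of_normal haL _)).eq, inv_mul_cancel_left,
      ← inv_mul_cancel_right (s⁻¹ * b * s) b, ph_mul (cen _ m), conj_eq_ph (ph a b),
      ← mem_center_iff.1 (cen _ m)] at e
    exact mul_left_cancel e
  have k2 : ph (ph a b) b ∈ Y := by
    have e := ph_mul' a b b
    rw [conj_eq_ph, ← mul_assoc, ← sq (ph a b), ← inv_inv (ph a b ^ 2), ← iv_iff_ph.1 iv, ← ph_swap] at e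
    exact (mul_mem_cancel_left ((hY _).2 ⟨_, ⟨⟨zS, zL⟩, mem_Np_comm.1 (zN haS)⟩, rfl⟩)).1
      (e ▸ (hY _).2 ⟨_, ⟨⟨mul_mem hbS hbS, mul_mem hbL hbL⟩, A hbS hbS nb nb⟩, rfl⟩)
  have bd := h.hyp.bound iv (mt (mem_Zl_of_center zL) hb) hS.pg Yc fun s hs => by
    by_cases n : s ∈ Np L a
    · exact k1 s hs n
    have := k1 _ (mul_mem hs (inv_mem hbS)) (A hs (inv_mem hbS) n (by rwa [inv_mem_iff]))
    rw [← inv_mul_cancel_right s b, ph_mul (Yc this)]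
    exact mul_mem this k2
  have l1 : Nat.card (Zl L) ≤ Nat.card (S ⊓ L ⊓ Np L a ⊓ C1 a : Subgroup G) :=
    card_le_of_le (le_inf (le_inf (le_inf (h.Zl_le_syl hS le_top) Zl_le) (Zl_le_Np a))
      fun ν hν => mem_C1.2 (comm_Zl hν haL))
  have l2 : Nat.card (S ⊓ L ⊓ Np L a : Subgroup G) < Nat.card (S ⊓ L : Subgroup G) :=
    card_lt_of_lt' (lt_of_le_of_ne inf_le_left fun e => nb (e.ge ⟨hbS, hbL⟩).2)
  calc Nat.card S * Nat.card (Zl L) ≤ 2 ^ c * Nat.card Y * _ := Nat.mul_le_mul bd l1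
    _ = 2 ^ c * _ := by rw [mul_assoc, cY]
    _ < _ := by rw [mul_comm]; exact Nat.mul_lt_mul_of_pos_right l2 (by positivity)

/-- transfer: `G' ∩ Z(G) ∩ P ≤ P'` for a perfect group (`MonoidHom.transfer_eq_pow` into
`Abelianization P`; `z ^ index ∈ P'`, index odd, `z` a 2-element; search the library first). -/
theorem center_le_comm {X : Type*} [Group X] [Finite X] (hp : commutator X = ⊤) {P : Subgroup X}
    (hP : Syl 2 P ⊤) {z : X} (hz : z ∈ P) (hc : z ∈ center X) : z ∈ ⁅P, P⁆ := by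
  obtain ⟨S, rfl⟩ := hP.exists_sylow
  exact Transfer.mem_commutator_of_hall_of_central S.card_coprime_index hz hc (hp ▸ mem_top z)

/-- If `S_L / Z` has a cyclic subgroup `⟨a⟩ Z / Z` of index `≤ 2` then `Z` has at most one involution.
`A = ⟨a⟩ ⊔ Z` is abelian.  If `S ⊓ L = A` then `⁅S_L, S_L⁆ = ⊥`.  Otherwise `S_L = A ∪ A b`, `A ⊴ S_L`,
`ph (a^k ν) b = (ph a b)^k`, and `K = zpowers (ph a b)` is normal in `S_L` with abelian quotient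
(`a, b` commute mod `K`, `Z` central), so `⁅S_L, S_L⁆ ≤ K`.  `center_le_comm` in the group `L` gives
`Z ≤ K` cyclic; a cyclic group has at most one involution. -/
theorem St.Zl_cyc (h : St c L) {S : Subgroup G} (hS : Syl 2 S ⊤) {a b : G} (haS : a ∈ S) (haL : a ∈ L)
    (hbS : b ∈ S) (hbL : b ∈ L)
    (hab : ∀ g ∈ S, g ∈ L → g ∈ zpowers a ⊔ Zl L ∨ g * b⁻¹ ∈ zpowers a ⊔ Zl L) :
    ∃ ζ ∈ Zl L, ζ ^ 2 = 1 ∧ ∀ ν ∈ Zl L, ν ^ 2 = 1 → ν = 1 ∨ ν = ζ := by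
  have ex : ∀ {g}, g ∈ zpowers a ⊔ Zl L → ∃ k : ℤ, ∃ ν ∈ Zl L, a ^ k * ν = g := fun hg => by
    obtain ⟨_, ⟨k, rfl⟩, ν, hν, e⟩ := mem_sup_of_normal_right.1 hg
    exact ⟨k, ν, hν, e⟩
  have ab : ∀ g ∈ zpowers a ⊔ Zl L, ∀ k ∈ zpowers a ⊔ Zl L, Commute g k := fun g hg k hk => by
    obtain ⟨i, ν, hν, rfl⟩ := ex hg
    obtain ⟨j, μ, hμ, rfl⟩ := ex hk
    exact ((Commute.zpow_zpow_self a i j).mul_right (comm_Zl hμ (zpow_mem haL i))).mul_left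
      (comm_Zl hν (mul_mem (zpow_mem haL j) (Zl_le hμ))).symm
  have aA : a ∈ zpowers a ⊔ Zl L := mem_sup_left (mem_zpowers a)
  have b2 : b * b ∈ zpowers a ⊔ Zl L := (hab _ (mul_mem hbS hbS) (mul_mem hbL hbL)).elim id
    fun e => by rw [mul_inv_cancel_right] at e; exact mul_mem e e
  have ba : b⁻¹ * a * b ∈ zpowers a ⊔ Zl L :=
    (hab _ (mul_mem (mul_mem (inv_mem hbS) haS) hbS) (pq_cj.2 haL)).elim id fun e => by
      rw [mul_inv_cancel_right] at e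
      exact mul_mem e (inv_mem_iff.1 ((mul_mem_cancel_right aA).1 e))
  have ck : Commute a (ph a b) := ab _ aA _ (mul_mem (inv_mem aA) ba)
  have iv : Iv b (ph a b) := by
    have e := ph_mul' a b b
    rw [ph_eq_one.2 (ab _ aA _ b2)] at e
    exact eq_inv_of_mul_eq_one_right e.symm
  have sy : ∀ {x y}, ph x y ∈ zpowers (ph a b) → ph y x ∈ zpowers (ph a b) := fun {x y} e => by
    rw [ph_swap y]; exact inv_mem e
  have s0 : ∀ g ∈ zpowers a ⊔ Zl L, ph g b ∈ zpowers (ph a b) := fun g hg => by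
    obtain ⟨i, ν, hν, rfl⟩ := ex hg
    rw [ph_mul_left, ph_eq_one.2 (comm_Zl hν hbL).symm, mul_one, mul_assoc,
      (comm_Zl hν (ph_mem_of_normal' _ hbL)).eq, inv_mul_cancel_left]
    refine ⟨i, ?_⟩
    have e : b⁻¹ * a ^ i * b = (b⁻¹ * a * b) ^ i := by simpa using (conj_zpow (a := b⁻¹)).symm
    show _ = (a ^ i)⁻¹ * _
    rw [e, conj_eq_ph, ck.mul_zpow, inv_mul_cancel_left]
  have s1 : ∀ x, (∀ g ∈ zpowers a ⊔ Zl L, ph x g ∈ zpowers (ph a b)) → ph x b ∈ zpowers (ph a b) →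
      ∀ y ∈ S ⊓ L, ph x y ∈ zpowers (ph a b) := fun x h1 h2 y hy => (hab y hy.1 hy.2).elim (h1 y)
    fun e => by
      obtain ⟨i, hi⟩ := h1 _ e
      rw [← inv_mul_cancel_right y b, ph_mul', ← hi, iv.zpow i]
      exact mul_mem h2 (inv_mem ⟨i, rfl⟩)
  have s2 : ∀ x ∈ S ⊓ L, ∀ y ∈ S ⊓ L, ph x y ∈ zpowers (ph a b) := fun x hx =>
    s1 x (fun g hg => sy (s1 g (fun k hk => ph_eq_one.2 (ab g hg k hk) ▸ one_mem _) (s0 g hg) x hx))
      (sy (s1 b (fun g hg => sy (s0 g hg)) (ph_eq_one.2 (Commute.refl b) ▸ one_mem _) x hx))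
  have Zk : Zl L ≤ zpowers (ph a b) := fun ν hν => by
    have := center_le_comm h.qs.1.commutator_eq_top
      (hS.inf_normal le_top (normalizer_eq_top L).ge).subgroupOf (z := ⟨ν, Zl_le hν⟩)
      ⟨h.Zl_le_syl hS le_top hν, Zl_le hν⟩ (mem_center_iff_Zl.2 hν)
    refine (commutator_le (H₃ := (zpowers (ph a b)).subgroupOf L)).2 (fun x hx y hy => ?_) this
    simpa [mem_subgroupOf, ph, commutatorElement_def, mul_assoc] using
      s2 _ (inv_mem hx) _ (inv_mem hy)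
  by_cases n : ∃ ζ ∈ Zl L, ζ ^ 2 = 1 ∧ ζ ≠ 1
  · obtain ⟨ζ, hζ, z2, z1⟩ := n
    refine ⟨ζ, hζ, z2, fun ν hν n2 => or_iff_not_imp_left.2 fun n1 => ?_⟩
    classical
    have := Fintype.ofFinite (zpowers (ph a b))
    have o : ∀ μ (hμ : μ ∈ Zl L), μ ^ 2 = 1 → μ ≠ 1 → orderOf (⟨μ, Zk hμ⟩ : zpowers (ph a b)) = 2 :=
      fun μ hμ m2 m1 => by rw [orderOf_mk]; exact orderOf_eq_prime m2 m1
    obtain ⟨u, hu⟩ := Finset.card_eq_one.1 ((IsCyclic.card_orderOf_eq_totient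
      (o ζ hζ z2 z1 ▸ orderOf_dvd_card)).trans Nat.totient_two)
    have h1 : ∀ z, orderOf z = 2 → z = u := fun z hz => Finset.mem_singleton.1 (by simp [← hu, hz])
    exact congrArg Subtype.val ((h1 _ (o ν hν n2 n1)).trans (h1 _ (o ζ hζ z2 z1)).symm)
  · exact ⟨1, one_mem _, one_pow 2, fun ν hν n2 => .inl (by_contra fun n1 => n ⟨ν, hν, n2, n1⟩)⟩

/-- `Hyp.bound` with `K = zpowers ζ` (order `≤ 2`) gives `|S| ≤ 2^(c+1)`, against `a2`. -/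
theorem CII.ec (h : CII c L) {S : Subgroup G} (hS : Syl 2 S ⊤) {z : G} (hz : SS L z) (hN : S ≤ Np L z)
    {a b : G} (haS : a ∈ S) (haL : a ∈ L) (hbS : b ∈ S) (hbL : b ∈ L)
    (hab : ∀ g ∈ S, g ∈ L → g ∈ zpowers a ⊔ Zl L ∨ g * b⁻¹ ∈ zpowers a ⊔ Zl L) : False := by
  obtain ⟨ζ, hζ, z2, u⟩ := h.st.Zl_cyc hS haS haL hbS hbL hab
  obtain ⟨i, -, -, iv⟩ := hz.2.2.2
  have bd := h.st.hyp.bound iv hz.nc hS.pg (zpowers_le.2 (h.st.z1 ζ hζ z2)) fun s hs =>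
    (u _ (mem_Np.1 (hN hs)) (h.st.ph_central hz.1 (mem_center_iff.1 (hz.sq h.st) s).symm
      (hN hs)).2).elim (· ▸ one_mem _) (· ▸ mem_zpowers _)
  have l := Nat.le_of_dvd Nat.card_pos (hy_dvd hS (k := c + 2) (card_top (G := G) ▸ h.a2))
  have o : orderOf ζ ≤ 2 := orderOf_le_of_pow_eq_one two_pos z2
  rw [Nat.card_zpowers] at bd
  have : 0 < 2 ^ c := by positivity
  rw [pow_add] at l
  nlinarith

end Cfsg.Agent.Rcs
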