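import Mathlib
import Cfsg.Agent.Rcs.Defs
import Cfsg.Agent.Rcs.CC
import Cfsg.Agent.S0483
import Cfsg.Agent.GW.A7Perm
import Cfsg.Agent.Grp.Cores

/-! S3860, Case I: end (Gorenstein-Walter). -/

set_option autoImplicit false
set_option linter.unusedSectionVars false

namespace Cfsg.Agent.Rcs

open Subgroup Cfsg.Agent.PLocal.CF

variable {G : Type*} [Group G] [Finite G] {c : ℕ}

section

open Matrix Matrix.SpecialLinearGroup
open scoped MatrixGroups

variable {F : Type} [Field F]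

/-- the projection `SL₂ → PSL₂`. -/
abbrev gwP (F : Type) [Field F] : SL(2, F) →* ProjectiveSpecialLinearGroup (Fin 2) F :=
  QuotientGroup.mk' (center _)

/-- unipotent matrices. -/
def gwT (s : F) : SL(2, F) := ⟨!![1, s; 0, 1], by simp⟩

/-- diagonal matrices. -/
def gwD (x : Fˣ) : SL(2, F) := ⟨!![(x : F), 0; 0, (x⁻¹ : Fˣ)], by simp⟩

/-- the Weyl element. -/
def gwW : SL(2, F) := ⟨!![0, 1; -1, 0], by simp⟩

theorem gwT_coe (s : F) : (gwT s).1 = !![1, s; 0, 1] := rfl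
theorem gwD_coe (x : Fˣ) : (gwD x).1 = !![(x : F), 0; 0, (x⁻¹ : Fˣ)] := rfl
theorem gwW_coe : (gwW : SL(2, F)).1 = !![0, 1; -1, 0] := rfl

theorem gw_eq {g h : SL(2, F)} : gwP F g = gwP F h ↔ ∃ r : F, r ^ 2 = 1 ∧ h.1 = r • g.1 := by
  rw [QuotientGroup.mk'_apply, QuotientGroup.mk'_apply, QuotientGroup.eq,
    Matrix.SpecialLinearGroup.mem_center_iff]
  refine exists_congr fun r => and_congr (by simp) ⟨fun e => ?_, fun e => ?_⟩
  · rw [← mul_inv_cancel_left g h]
    change g.1 * (g⁻¹ * h).1 = _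
    rw [← e, scalar_apply, ← smul_one_eq_diagonal, Matrix.mul_smul, Matrix.mul_one]
  · change _ = (g⁻¹).1 * h.1
    rw [e, Matrix.mul_smul, show (g⁻¹).1 * g.1 = (g⁻¹ * g).1 from rfl, inv_mul_cancel, scalar_apply,
      ← smul_one_eq_diagonal]
    rfl

theorem gwT_mul (s t : F) : gwT s * gwT t = gwT (s + t) :=
  Subtype.ext (by simp [gwT_coe, add_comm])

theorem gwT_zero : gwT (0 : F) = 1 := Subtype.ext (by simp [gwT, one_fin_two])

theorem gwT_pow (s : F) (n : ℕ) : gwT s ^ n = gwT (n * s) := by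
  induction n with
  | zero => simp [gwT_zero]
  | succ n ih => rw [pow_succ, ih, gwT_mul]; push_cast; ring_nf

theorem gwD_mul (x y : Fˣ) : gwD x * gwD y = gwD (x * y) :=
  Subtype.ext (by simp [gwD_coe, mul_comm])

theorem gwD_one : gwD (1 : Fˣ) = 1 := Subtype.ext (by simp [gwD, one_fin_two])

theorem gwD_pow (x : Fˣ) (n : ℕ) : gwD x ^ n = gwD (x ^ n) := by
  induction n with
  | zero => simp [gwD_one]
  | succ n ih => rw [pow_succ, ih, gwD_mul, pow_succ]

theorem gwD_P {x : Fˣ} (h : x ^ 2 = 1) : gwP F (gwD x) = 1 := by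
  rw [← map_one (gwP F), eq_comm, gw_eq]
  refine ⟨x, by simpa using congrArg Units.val h, ?_⟩
  rw [gwD_coe, inv_eq_of_mul_eq_one_right (pow_two x ▸ h)]
  simp [one_fin_two]

theorem gw_comm {y g : SL(2, F)} (h : Commute (gwP F y) (gwP F g)) :
    g.1 * y.1 = y.1 * g.1 ∨ g.1 * y.1 = -(y.1 * g.1) := by
  have := h.eq
  rw [← map_mul, ← map_mul, gw_eq] at this
  obtain ⟨r, r2, e⟩ := this
  rcases mul_self_eq_one_iff.1 (pow_two r ▸ r2) with rfl | rfl
  · exact Or.inl (e.trans (one_smul _ _))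
  · exact Or.inr (e.trans (neg_one_smul _ _))

theorem gw_one [Fintype F] (h2 : (2 : F) ≠ 0) {i : F} (hi : i * i = -1) :
    ∃ y t : ProjectiveSpecialLinearGroup (Fin 2) F, y ≠ 1 ∧ Odd (orderOf y) ∧ Iv t y ∧
      ∀ u, Two u → Commute y u → u = 1 := by
  have pp := CharP.char_is_prime F (ringChar F)
  have po : Odd (ringChar F) := pp.odd_of_ne_two fun e => h2 (by
    have := ringChar.Nat.cast_ringChar (R := F)
    rwa [e] at this)
  have k : ∀ s : F, gwP F (gwT s) ^ ringChar F = 1 := fun s => by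
    rw [← map_pow, gwT_pow, ringChar.Nat.cast_ringChar, zero_mul, gwT_zero, map_one]
  have i0 : i ≠ 0 := by rintro rfl; simp at hi
  refine ⟨gwP F (gwT 1), gwP F (gwD (Units.mk0 i i0)), fun e => ?_,
    po.of_dvd_nat (orderOf_dvd_of_pow_eq_one (k 1)), ?_, fun u hu hc => ?_⟩
  · rw [← map_one (gwP F), eq_comm, gw_eq] at e
    obtain ⟨r, -, e⟩ := e
    simpa [gwT] using congrFun (congrFun e 0) 1
  · rw [Iv, ← map_inv, ← map_mul, ← map_mul, ← map_inv, mul_assoc, eq_comm]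
    congr 1
    rw [eq_inv_mul_iff_mul_eq, mul_inv_eq_iff_eq_mul]
    have : i⁻¹ = -i := inv_eq_of_mul_eq_one_right (by linear_combination -hi)
    exact Subtype.ext (by simp [gwT_coe, gwD_coe, this])
  · obtain ⟨g, rfl⟩ := QuotientGroup.mk'_surjective _ u
    have d := g.2
    rw [det_fin_two] at d
    rcases gw_comm hc with e | e <;>
      have e1 := congrFun (congrFun e 0) 0 <;> have e2 := congrFun (congrFun e 0) 1 <;>
      have e3 := congrFun (congrFun e 1) 0 <;>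
      simp only [gwT_coe, Matrix.mul_apply, Fin.sum_univ_two, Matrix.neg_apply, of_apply, cons_val',
        cons_val_zero, cons_val_one, cons_val_fin_one, mul_zero, zero_mul, add_zero, zero_add, mul_one,
        one_mul, left_eq_add] at e1 e2 e3
    · have e4 : g.1 1 1 = g.1 0 0 := by linear_combination -e2
      rw [e1, e4, mul_zero, sub_zero] at d
      have : gwP F (gwT (g.1 0 0 * g.1 0 1)) = gwP F g := gw_eq.2 ⟨g.1 0 0, by rw [pow_two, d], by
        rw [eta_fin_two g.1]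
        simp [gwT, e1, e4, ← mul_assoc, d]⟩
      exact pq_odd hu po (this ▸ k _)
    · have e4 : g.1 1 0 = 0 := (mul_eq_zero.1 (show 2 * g.1 1 0 = 0 by linear_combination e3)).resolve_left h2
      have e5 : g.1 0 0 = 0 :=
        (mul_eq_zero.1 (show 2 * g.1 0 0 = 0 by linear_combination e1 - e4)).resolve_left h2
      simp [e4, e5] at d

theorem gw_three [Fintype F] (h2 : (2 : F) ≠ 0) (hi : ∀ i : F, i * i ≠ -1) {m : ℕ} (hm : Odd m)
    (hq : ∀ x : Fˣ, x ^ (2 * m) = 1) {b : Fˣ} (hb : b ^ 2 ≠ 1) :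
    ∃ y t : ProjectiveSpecialLinearGroup (Fin 2) F, y ≠ 1 ∧ Odd (orderOf y) ∧ Iv t y ∧
      ∀ u, Two u → Commute y u → u = 1 := by
  have k : ∀ x : Fˣ, gwP F (gwD x) ^ m = 1 := fun x => by
    rw [← map_pow, gwD_pow, gwD_P (by rw [← pow_mul, mul_comm, hq])]
  obtain ⟨a, ha⟩ : ∃ a : Fˣ, a = b ^ 2 := ⟨_, rfl⟩
  have a0 : (a : F) ≠ 0 := a.ne_zero
  have a1 : (a : F) * a - 1 ≠ 0 := fun e => by
    rcases mul_self_eq_one_iff.1 (sub_eq_zero.1 e) with e | e
    · exact hb (ha ▸ Units.ext e)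
    · exact hi b (by rw [← e, ha, pow_two, Units.val_mul])
  have a2 : (a : F) * a + 1 ≠ 0 := fun e => hi a (eq_neg_of_add_eq_zero_left e)
  refine ⟨gwP F (gwD a), gwP F gwW, fun e => ?_,
    hm.of_dvd_nat (orderOf_dvd_of_pow_eq_one (k a)), ?_, fun u hu hc => ?_⟩
  · rw [← map_one (gwP F), eq_comm, gw_eq] at e
    obtain ⟨r, r2, e⟩ := e
    have e1 : (a : F) = r := by simpa [gwD] using congrFun (congrFun e 0) 0
    exact a1 (by rw [e1, ← pow_two, r2, sub_self])
  · rw [Iv, ← map_inv, ← map_mul, ← map_mul, ← map_inv, mul_assoc, eq_comm]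
    congr 1
    rw [eq_inv_mul_iff_mul_eq, inv_eq_of_mul_eq_one_right ((gwD_mul a a⁻¹).trans
      (by rw [mul_inv_cancel, gwD_one]))]
    exact Subtype.ext (by simp [gwW_coe, gwD_coe])
  · obtain ⟨g, rfl⟩ := QuotientGroup.mk'_surjective _ u
    have d := g.2
    rw [det_fin_two] at d
    rcases gw_comm hc with e | e <;>
      have e1 := congrFun (congrFun e 0) 0 <;> have e2 := congrFun (congrFun e 0) 1 <;>
      have e3 := congrFun (congrFun e 1) 0 <;>
      simp only [gwD, Matrix.mul_apply, Fin.sum_univ_two, Matrix.neg_apply, of_apply, cons_val', cons_val_zero,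
        cons_val_one, cons_val_fin_one, Units.val_inv_eq_inv_val, mul_zero, zero_mul, add_zero,
        zero_add] at e1 e2 e3 <;> field_simp at e2 e3
    · have e4 : g.1 0 1 = 0 := (mul_eq_zero.1 (show (a * a - 1) * g.1 0 1 = 0 by
        linear_combination -e2)).resolve_left a1
      have e5 : g.1 1 0 = 0 := (mul_eq_zero.1 (show (a * a - 1) * g.1 1 0 = 0 by
        linear_combination e3)).resolve_left a1
      rw [e4, zero_mul, sub_zero] at d
      have : gwD (Units.mkOfMulEqOne _ _ d) = g := Subtype.ext (Eq.trans (by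
        rw [e4, e5]
        rfl) (eta_fin_two g.1).symm)
      exact pq_odd hu hm (this ▸ k _)
    · have e4 : g.1 0 1 = 0 := (mul_eq_zero.1 (show (a * a + 1) * g.1 0 1 = 0 by
        linear_combination e2)).resolve_left a2
      have e5 : g.1 0 0 = 0 := (mul_eq_zero.1 (show (2 * a) * g.1 0 0 = 0 by
        linear_combination e1)).resolve_left (mul_ne_zero h2 a0)
      simp [e4, e5] at d

end

/-- `q ≡ 1 (4)`: `y` = image of `!![1,1;0,1]`, inverted by `diag(i, i⁻¹)`, `i^2 = -1`; an element of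
`SL₂` with `g y g⁻¹ = ± y` has sign `+` (trace `2 ≠ -2`), so `g = ± !![1,b;0,1]`, of odd order `p` in
`PSL₂`.  `q ≡ 3 (4)`: `y` = image of `diag(a, a⁻¹)`, `a = b^2`, `b` a generator of `Fˣ` (order
`(q-1)/2`, odd, `> 1`), inverted by `!![0,1;-1,0]`; `g y g⁻¹ = - y` gives trace `a + a⁻¹ = 0`, `a^2 = -1`,
impossible; so `g` is diagonal, `g ^ ((q-1)/2) = ± 1`. -/
theorem psl2_real {F : Type} [Field F] [Fintype F] (ho : Odd (Fintype.card F)) (h3 : 3 < Fintype.card F) :
    ∃ y t : Matrix.ProjectiveSpecialLinearGroup (Fin 2) F, y ≠ 1 ∧ Odd (orderOf y) ∧ Iv t y ∧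
      ∀ u, Two u → Commute y u → u = 1 := by
  classical
  have h2 : (2 : F) ≠ 0 := fun e => by
    have : ringChar F = 2 := CharP.ringChar_of_prime_eq_zero Nat.prime_two e
    have := FiniteField.even_card_of_char_two this
    have := Nat.odd_iff.1 ho
    omega
  by_cases hi : IsSquare (-1 : F)
  · obtain ⟨i, hi⟩ := hi
    exact gw_one h2 hi.symm
  have h4 : Fintype.card F % 4 = 3 := by
    by_contra n
    exact hi (FiniteField.isSquare_neg_one_iff.2 n)
  obtain ⟨b, hb⟩ := Finset.exists_mem_notMem_of_card_lt_card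
    (s := ({0, 1, -1} : Finset F)) (t := Finset.univ) (Finset.card_le_three.trans_lt h3)
  simp only [Finset.mem_univ, Finset.mem_insert, Finset.mem_singleton, not_or, true_and] at hb
  refine gw_three h2 (fun i e => hi ⟨i, e.symm⟩) (m := Fintype.card F / 2) (Nat.odd_iff.2 (by omega))
    (fun x => ?_) (b := Units.mk0 b hb.1) fun e => ?_
  · rw [show 2 * (Fintype.card F / 2) = Fintype.card Fˣ by rw [Fintype.card_units]; omega, pow_card_eq_one]
  · have := congrArg Units.val e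
    rw [Units.val_pow_eq_pow_val, Units.val_mk0, Units.val_one, pow_two, mul_self_eq_one_iff] at this
    tauto

/-- the 5-cycle `(0 1 2 3 4)`. -/
def gwY : Equiv.Perm (Fin 7) := Equiv.swap 0 1 * Equiv.swap 1 2 * Equiv.swap 2 3 * Equiv.swap 3 4

open GW.A7P in
theorem gw_five {σ : Equiv.Perm (Fin 7)} (h : gwY * σ = σ * gwY) : σ ^ 5 = 1 ∨ σ ^ 5 = Equiv.swap 5 6 := by
  have ry : R (lk (enc [1, 2, 3, 4, 0, 5, 6])) gwY := by unfold R; decide +kernel
  have rs : R (lk (enc [0, 1, 2, 3, 4, 6, 5])) (Equiv.swap 5 6) := by unfold R; decide +kernel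
  obtain ⟨g, hg, k⟩ := forall_perm
    (fun g => !(eqb (fun i => lk (enc [1, 2, 3, 4, 0, 5, 6]) (g i)) fun i => g (lk (enc [1, 2, 3, 4, 0, 5, 6]) i)) ||
      (eqb g^[5] (fun i => i) || eqb g^[5] (lk (enc [0, 1, 2, 3, 4, 6, 5])))) (by decide +kernel) σ
  simp only [Bool.or_eq_true, Bool.not_eq_true', ← Bool.not_eq_true, (hg.pow _).eqb_iff R.one,
    (ry.mul hg).eqb_iff (hg.mul ry), (hg.pow _).eqb_iff rs] at k
  tauto

/-- `y` a 5-cycle `(0 1 2 3 4)`, `t = (1 4)(2 3)`; the centralizer of `y` in `S₇` is `⟨y⟩ × ⟨(5 6)⟩`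
(`GW/A7Perm` has an enumeration tool `forall_perm`; or `Equiv.Perm.IsCycle.commute_iff`). -/
theorem a7_real : ∃ y t : alternatingGroup (Fin 7), y ≠ 1 ∧ Odd (orderOf y) ∧ Iv t y ∧
      ∀ u, Two u → Commute y u → u = 1 := by
  have k : ∀ u : alternatingGroup (Fin 7), gwY * u = u * gwY → u ^ 5 = 1 := fun u h =>
    Subtype.ext ((gw_five h).resolve_right fun e => by
      have := Equiv.Perm.mem_alternatingGroup.1 (u ^ 5).2
      rw [Subgroup.coe_pow, e] at this
      exact absurd this (by decide))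
  refine ⟨⟨gwY, Equiv.Perm.mem_alternatingGroup.2 (by decide)⟩,
    ⟨Equiv.swap 1 4 * Equiv.swap 2 3, Equiv.Perm.mem_alternatingGroup.2 (by decide)⟩,
    fun e => absurd (congrArg Subtype.val e) (by decide),
    (by decide : Odd 5).of_dvd_nat (orderOf_dvd_of_pow_eq_one (k _ rfl)), Subtype.ext (by decide),
    fun u hu hc => pq_odd hu (by decide) (k u (congrArg Subtype.val hc.eq))⟩

/-- transport along an isomorphism. -/
theorem real_of_equiv {X Y : Type*} [Group X] [Group Y] (e : X ≃* Y)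
    (h : ∃ y t : Y, y ≠ 1 ∧ Odd (orderOf y) ∧ Iv t y ∧ ∀ u, Two u → Commute y u → u = 1) :
    ∃ y t : X, y ≠ 1 ∧ Odd (orderOf y) ∧ Iv t y ∧ ∀ u, Two u → Commute y u → u = 1 := by
  obtain ⟨y, t, y1, o, i, k⟩ := h
  refine ⟨e.symm y, e.symm t, by simpa using y1, by rwa [MulEquiv.orderOf_eq], ?_, fun u ⟨n, hn⟩ hc => ?_⟩
  · rw [Iv, ← map_inv, ← map_mul, ← map_mul, i, map_inv]
  · refine (map_eq_one_iff e e.injective).1 (k _ ⟨n, by rw [← map_pow, hn, map_one]⟩ ?_)
    simpa using hc.map e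

variable {L : Subgroup G} [L.Normal] {d x w : G} {T : Subgroup G}

/-- `P` from `St.exists_P`, dihedral of order `2n ≥ 4` (`CI.dih`).  S0483 in `X = Qt L`;
`oddCore X = ⊥` (simple of even order), so `X ≃* X ⧸ oddCore X`.  `St.cnt'`:
`|S ⊓ L| 2^c ≤ |S| |Z| = 2^(c+1) |Z|` (`Pr.card_sd`), but `|S ⊓ L| = |P| |Z| ≥ 4 |Z|`. -/
theorem CI.false (h : CI c L d x w T) : False := by
  obtain ⟨P, hP, cP⟩ := h.st.exists_P h.syl
  obtain ⟨n, n2, ⟨e⟩⟩ := h.dih P hP
  have cd : Nat.card (P : Subgroup (Qt L)) = 2 * n := by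
    rw [Nat.card_congr e.toEquiv, DihedralGroup.nat_card]
  have := h.st.simple
  have := h.st.perfect
  have o : oddCore (Qt L) = ⊥ := by
    refine (IsSimpleGroup.eq_bot_or_eq_top_of_normal _ inferInstance).resolve_right fun q => ?_
    have := Grp.coprime_of_le_pPrimeCore (p := 2) (N := P) (le_top.trans q.ge)
    rw [cd, Nat.coprime_two_right, Nat.odd_iff] at this
    omega
  have f : Qt L ≃* Qt L ⧸ oddCore (Qt L) :=
    QuotientGroup.quotientBot.symm.trans (QuotientGroup.quotientMulEquivOfEq o.symm)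
  obtain ⟨y, t, y1, yo, i, k⟩ : ∃ y t : Qt L, y ≠ 1 ∧ Odd (orderOf y) ∧ Iv t y ∧
      ∀ u, Two u → Commute y u → u = 1 := by
    rcases S0483.result P n n2 ⟨e⟩ with ⟨F, _, _, ho, h3, ⟨g⟩⟩ | ⟨⟨g⟩⟩
    · exact real_of_equiv (f.trans g) (psl2_real ho h3)
    · exact real_of_equiv (f.trans g) a7_real
  have := h.st.cnt' h.syl y1 yo i k
  rw [← cP, cd, h.pr.card_sd, pow_succ] at this
  have z := Nat.card_pos (α := Zl L)
  have t := Nat.two_pow_pos c
  have m := Nat.mul_pos z t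
  nlinarith

end Cfsg.Agent.Rcs
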